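import Groth.Agent.Sga2.CodimExt

/-!
# Vanishing of `Ext^i(M, A)` below the codimension, `A` regular local
-/

set_option autoImplicit false
universe u
open CategoryTheory CategoryTheory.Limits

namespace K173.ExtCodim

open Groth.Agent Groth.Agent.Sga2.CodimExt

theorem subsingleton_ext (A : Type u) [CommRing A] [IsRegularLocalRing A] (M : Type u)
    [AddCommGroup M] [Module A M] [Module.Finite A M] (p : ℕ)
    (hdim : Module.supportDim A M + p ≤ ringKrullDim A) (i : ℕ) (hi : i < p) :
    Subsingleton (Abelian.Ext (ModuleCat.of A M) (ModuleCat.of A A) i) := by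
  by_cases hN : Subsingleton M
  · have : IsZero (ModuleCat.of A M) := ModuleCat.isZero_of_subsingleton _
    exact Localalg.Depth.ext_subsingleton_of_annihilator_sup_eq_top (by
      have : Module.annihilator A (ModuleCat.of A M) = ⊤ := Module.annihilator_eq_top_iff.2 hN
      rw [this, top_sup_eq]) i
  rw [not_subsingleton_iff_nontrivial] at hN
  let I := Module.annihilator A M
  have hI : I ≠ ⊤ := fun hI => not_subsingleton M (Module.annihilator_eq_top_iff.1 hI)
  have hIm : I ≤ IsLocalRing.maximalIdeal A := IsLocalRing.le_maximalIdeal hI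
  have hsupp : Module.support A M = PrimeSpectrum.zeroLocus (I : Set A) := Module.support_eq_zeroLocus
  have hsd : Module.supportDim A M = ringKrullDim (A ⧸ I) :=
    Module.supportDim_eq_ringKrullDim_quotient_annihilator A M
  rw [hsd] at hdim
  have key : ((i + 1 : ℕ) : ℕ∞) ≤ LocCoh.idealDepth I A := by
    by_contra hlt
    rw [not_le] at hlt
    obtain ⟨e, he⟩ := ENat.ne_top_iff_exists.mp (ne_top_of_lt hlt)
    rw [← he] at hlt
    have hlt' : e < i + 1 := by exact_mod_cast hlt
    have h1 := Ega4A.Depth.depth_le_idealDepth_add (M := A) hIm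
    have h2 := (Ega4A.CMFields.isCohenMacaulayLocalRing_of_isRegularLocalRing A).supportDim_eq_depth
    rw [← h2, Module.supportDim_self_eq_ringKrullDim, ← he] at h1
    obtain ⟨r, hr⟩ := exists_ringKrullDim_eq A
    rw [hr] at h1 hdim
    have h3 : ringKrullDim (A ⧸ I) ≠ ⊥ := by
      have : Nontrivial (A ⧸ I) := Ideal.Quotient.nontrivial_iff.2 hI
      exact ringKrullDim_ne_bot
    obtain ⟨a, ha⟩ := WithBot.ne_bot_iff_exists.1 h3
    rw [← ha] at h1 hdim
    have h4 : a + p ≤ (r : ℕ∞) := by exact_mod_cast hdim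
    obtain ⟨b, rfl⟩ := ENat.ne_top_iff_exists.mp (ne_top_of_le_ne_top (ENat.coe_ne_top r)
      (le_self_add.trans h4))
    have h5 : b + p ≤ r := by exact_mod_cast h4
    have h6 : r ≤ e + b := by exact_mod_cast h1
    omega
  refine Localalg.Depth.ext_subsingleton_of_lt_idealDepth I M hsupp.subset A i (lt_of_lt_of_le ?_ key)
  exact_mod_cast Nat.lt_succ_self i

end K173.ExtCodim
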