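import Groth.Agent.Dual.K173.PureFib
import Groth.Agent.Ega4C.SkField
import Groth.Agent.Ega43.FibreDimNat
import Groth.Agent.LoccohB.LBC

/-!
# `ω_{A/R}` in one degree: the fibres are Cohen–Macaulay of pure dimension
-/

set_option autoImplicit false
universe u

open CategoryTheory AlgebraicGeometry
open scoped TensorProduct

attribute [local instance] HasDerivedCategory.standard

namespace K173.CMConv

open Groth.Agent.Dual.H319 Groth.Agent.Ega4C

variable {R A : Type u} [CommRing R] [CommRing A] [IsNoetherianRing R] [IsNoetherianRing A]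
  [Algebra R A] [Module.Flat R A] (N : ℕ) (ψ : MvPolynomial (Fin N) R →ₐ[R] A)
  (hψ : Function.Surjective ψ) [DRing.HasLBaseChange (algebraMap R (MvPolynomial (Fin N) R))]
  (Rψ : Dual.D (MvPolynomial (Fin N) R) ⥤ Dual.D A) (adj : DRing.restrictD ψ.toRingHom ⊣ Rψ)

include hψ in
theorem exists_fibreDimAt (q : PrimeSpectrum A) :
    ∃ d : ℕ, FlatMor.fibreDimAt (Spec.map (CommRingCat.ofHom (algebraMap R A))) q = d := by
  have hFT : Algebra.FiniteType R A := Algebra.FiniteType.iff_quotient_mvPolynomial''.2 ⟨N, ψ, hψ⟩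
  have hlft : LocallyOfFiniteType (Spec.map (CommRingCat.ofHom (algebraMap R A))) := by
    rw [HasRingHomProperty.Spec_iff (P := @LocallyOfFiniteType)]
    change (algebraMap R A).FiniteType
    rw [RingHom.finiteType_algebraMap]
    exact hFT
  exact Groth.Agent.Ega43.FibreDimNat.exists_natCast_fibreDimAt
    (Spec.map (CommRingCat.ofHom (algebraMap R A))) q

include hψ adj

theorem forward (n : ℕ)
    (hCM : ∀ p : PrimeSpectrum R, LocCoh.IsCohenMacaulayRing (A ⊗[R] p.asIdeal.ResidueField))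
    (hd : ∀ (p : PrimeSpectrum R) (Q : PrimeSpectrum (A ⊗[R] p.asIdeal.ResidueField)),
      Q.asIdeal ∈ minimalPrimes (A ⊗[R] p.asIdeal.ResidueField) → Order.coheight Q = (n : ℕ∞)) :
    (∀ i : ℤ, i ≠ -(n : ℤ) → Subsingleton (Dual.HD A (Dual2.shriekVia N Rψ (Dual.inD R R)) i)) ∧
    Module.Finite A (Dual.HD A (Dual2.shriekVia N Rψ (Dual.inD R R)) (-(n : ℤ))) ∧
    Module.Flat R ((ModuleCat.restrictScalars (algebraMap R A)).obj
      ((DerivedCategory.homologyFunctor (ModuleCat.{u} A) (-(n : ℤ))).obj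
        (Dual2.shriekVia N Rψ (Dual.inD R R)))) := by
  have hFT : Algebra.FiniteType R A := Algebra.FiniteType.iff_quotient_mvPolynomial''.2 ⟨N, ψ, hψ⟩
  exact Groth.Agent.Dual.H318.CMRing.ring_main N ψ hψ Rψ adj n
    (fun q => (Groth.Agent.Ega4C.CMFibres.isCM_fibers_iff (A := R) (B := A)).1
      (fun p hp => Groth.Agent.Ega4C.SkField.isCMRing_of_ringEquiv
        (K173.PureFib.fibEquiv ⟨p, hp⟩) (hCM ⟨p, hp⟩)) q.asIdeal)
    (K173.PureFib.fibreDimAt_eq' n hd)

theorem fibreDimAt_eq (n : ℕ)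
    (h : ∀ i : ℤ, i ≠ -(n : ℤ) → Subsingleton (Dual.HD A (Dual2.shriekVia N Rψ (Dual.inD R R)) i))
    (q : PrimeSpectrum A) :
    FlatMor.fibreDimAt (Spec.map (CommRingCat.ofHom (algebraMap R A))) q = n := by
  obtain ⟨d, hd⟩ := exists_fibreDimAt N ψ hψ q
  obtain ⟨Q, hQ, hQq⟩ := FibreTower.exists_prime_fibre (q.asIdeal.comap (algebraMap R A))
    q.asIdeal rfl
  let p : PrimeSpectrum R := ⟨q.asIdeal.comap (algebraMap R A), inferInstance⟩
  have hL : DRing.HasLBaseChange
      (Algebra.TensorProduct.includeRight : A →ₐ[R] p.asIdeal.Fiber A).toRingHom :=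
    Groth.Agent.LoccohB.LBC.hasLBaseChange _
  have h4 := (Core.support_facts N ψ hψ Rψ adj p ⟨Q, hQ⟩ q hQq.symm d hd).1
  have h5 : -(d : ℤ) = -(n : ℤ) := by
    by_contra hne
    have := h _ hne
    rw [Module.support_eq_empty] at h4
    exact h4
  rw [hd, show d = n by omega]

theorem backward (n : ℕ)
    (h : ∀ i : ℤ, i ≠ -(n : ℤ) → Subsingleton (Dual.HD A (Dual2.shriekVia N Rψ (Dual.inD R R)) i))
    (p : PrimeSpectrum R) :
    LocCoh.IsCohenMacaulayRing (A ⊗[R] p.asIdeal.ResidueField) ∧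
    ∀ (Q : PrimeSpectrum (A ⊗[R] p.asIdeal.ResidueField)),
      Q.asIdeal ∈ minimalPrimes (A ⊗[R] p.asIdeal.ResidueField) → Order.coheight Q = (n : ℕ∞) := by
  have hFT : Algebra.FiniteType R A := Algebra.FiniteType.iff_quotient_mvPolynomial''.2 ⟨N, ψ, hψ⟩
  have hd := fibreDimAt_eq N ψ hψ Rψ adj n h
  have hL : DRing.HasLBaseChange
      (Algebra.TensorProduct.includeRight : A →ₐ[R] p.asIdeal.Fiber A).toRingHom :=
    Groth.Agent.LoccohB.LBC.hasLBaseChange _
  constructor
  · have hCM : LocCoh.IsCohenMacaulayRing (p.asIdeal.Fiber A) := by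
      refine { toIsNoetherian := FibreTower.isNoetherianRing_fiber p.asIdeal
               isCohenMacaulayLocalRing_localization := ?_ }
      intro Q hQ
      let q : PrimeSpectrum A := ⟨FibreTower.ctr p.asIdeal Q, inferInstance⟩
      refine (Core.cm_iff_existsUnique N ψ hψ Rψ adj p ⟨Q, hQ⟩ q rfl n
        (hd q)).2 ⟨-(n : ℤ), ?_, fun i hi => ?_⟩
      · exact (Core.support_facts N ψ hψ Rψ adj p ⟨Q, hQ⟩ q rfl n (hd q)).1
      · by_contra hne
        have := h i hne
        have hi' : q ∈ Module.support A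
          (Dual.HD A (Dual2.shriekVia N Rψ (Dual.inD R R)) i) := hi
        rw [Module.support_eq_empty] at hi'
        exact hi'
    exact Groth.Agent.Ega4C.SkField.isCMRing_of_ringEquiv (K173.PureFib.fibEquiv p).symm hCM
  · exact K173.PureFib.coheight_eq_of_fibreDimAt' n hd p

end K173.CMConv
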