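import Groth.Agent.QGor.K970.RelSk2
import Groth.Agent.CurvSt.K902.LociDim
import Groth.Agent.CurvSt.K901.LociCMGor
import Groth.Agent.Dual.K173.CMConv

/-!
# The Cohen–Macaulay locus of a ring map, pointwise
-/

set_option autoImplicit false
universe u

open CategoryTheory AlgebraicGeometry IsLocalRing
open scoped TensorProduct

namespace K173.CMLoc

open Groth.Agent Groth.Agent.Flat2D.FiberStalk Groth.Agent.Ega4C

variable {A C : Type u} [CommRing A] [CommRing C] [Algebra A C]

/-- The local ring of the fibre of `Spec C → Spec A` at `x`. -/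
theorem nonempty_fibLoc_equiv (x : Spec (CommRingCat.of C)) (q : PrimeSpectrum C) (hx : x = q) :
    Nonempty (((Spec (CommRingCat.of C)).presheaf.stalk x ⧸
      Ideal.map ((Spec.map (CommRingCat.ofHom (algebraMap A C))).stalkMap x).hom
        (maximalIdeal ((Spec (CommRingCat.of A)).presheaf.stalk
          (Spec.map (CommRingCat.ofHom (algebraMap A C)) x)))) ≃+*
      EGA4.FibLocRing A C q.asIdeal) := by
  let i1 := S2394.algStalk (CommRingCat.of C) x
  let i2 : Algebra C ((Spec (CommRingCat.of C)).presheaf.stalk x) := i1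
  have h1 : IsLocalization.AtPrime ((Spec (CommRingCat.of C)).presheaf.stalk x) q.asIdeal := by
    subst hx
    exact S2394.isLocalization_stalk (CommRingCat.of C) x
  let σ : Localization.AtPrime q.asIdeal ≃ₐ[C] (Spec (CommRingCat.of C)).presheaf.stalk x :=
    IsLocalization.algEquiv q.asIdeal.primeCompl _ _
  have h2 := K970.RelSk2.fibreIdeal_chart (A := A) x q hx
  rw [fibreIdeal_def] at h2
  refine ⟨(Ideal.quotientEquiv _ _ σ.toRingEquiv ?_).symm⟩
  rw [h2, Ideal.map_map]
  congr 1
  ext a
  change _ = σ (algebraMap A (Localization.AtPrime q.asIdeal) a)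
  rw [IsScalarTower.algebraMap_apply A C (Localization.AtPrime q.asIdeal), σ.commutes]
  rfl

theorem isCMAt_iff (q : PrimeSpectrum C) :
    MoreMor.IsCMAt (Spec.map (CommRingCat.ofHom (algebraMap A C))) q ↔
      ((Spec.map (CommRingCat.ofHom (algebraMap A C))).stalkMap q).hom.Flat ∧
      LocCoh.IsCohenMacaulayLocalRing (EGA4.FibLocRing A C q.asIdeal) := by
  obtain ⟨e⟩ := nonempty_fibLoc_equiv (A := A) (C := C) (q : Spec (CommRingCat.of C)) q rfl
  rw [moreMor_isCMAt_iff, isCohenMacaulayLocalRing_iff_of_ringEquiv e]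

theorem flat_stalkMap [Module.Flat A C] (q : Spec (CommRingCat.of C)) :
    ((Spec.map (CommRingCat.ofHom (algebraMap A C))).stalkMap q).hom.Flat := by
  have : Flat (Spec.map (CommRingCat.ofHom (algebraMap A C))) := by
    rw [HasRingHomProperty.Spec_iff (P := @Flat)]
    change (algebraMap A C).Flat
    rw [RingHom.flat_algebraMap_iff]
    infer_instance
  exact Flat.stalkMap _ q

end K173.CMLoc
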