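import Groth.Agent.Deform.K682.ExtOne
import Groth.Agent.Sga2.RegExt
import Groth.Agent.Ega43.FlatKer
import Groth.Agent.Brauer.K443.AzDesc
import Mathlib.Algebra.FiveLemma
import Mathlib.LinearAlgebra.LeftExact
import Mathlib.LinearAlgebra.Dual.BaseChange

/-!
# Base change of `Ext(M, P)` when everything is flat over the base

`A → P`, `P` flat over `A`, `P' = A' ⊗_A P`; `M` a finite `P`-module, flat over `A`, of finite
projective dimension over `P`, and all `Ext^j_P(M, P)` (`j ≥ 1`) flat over `A`. Then
`Hom_P(M, P)` is flat over `A` and `P' ⊗ Ext^j_P(M, P) = Ext^j_{P'}(P' ⊗ M, P')` for all `j`.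
-/

set_option autoImplicit false
universe u

open CategoryTheory TensorProduct

namespace K173.ExtBC

section Theta

variable {P : Type u} (Q : Type u) [CommRing P] [CommRing Q] [Algebra P Q]
  (K F M : Type u) [AddCommGroup K] [AddCommGroup F] [AddCommGroup M] [Module P K] [Module P F]
  [Module P M]

/-- The base change map of the dual. -/
noncomputable def theta : Q ⊗[P] (M →ₗ[P] P) →ₗ[Q] (Q ⊗[P] M →ₗ[Q] Q) :=
  (Module.Dual.baseChange Q : Module.Dual P M →ₗ[P] Module.Dual Q (Q ⊗[P] M)).liftBaseChange Q

theorem theta_tmul (a : Q) (f : M →ₗ[P] P) (b : Q) (m : M) :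
    theta Q M (a ⊗ₜ f) (b ⊗ₜ m) = a * (f m • b) := by
  simp only [theta, LinearMap.liftBaseChange_tmul, LinearMap.smul_apply, smul_eq_mul]
  rfl

variable {K F M}

theorem theta_natural (i : K →ₗ[P] F) (x : Q ⊗[P] (F →ₗ[P] P)) :
    theta Q K ((LinearMap.lcomp P P i).lTensor Q x) =
      LinearMap.lcomp Q Q (i.baseChange Q) (theta Q F x) := by
  induction x using TensorProduct.induction_on with
  | zero => simp
  | tmul a f =>
    refine TensorProduct.AlgebraTensorModule.ext fun b m => ?_
    rw [LinearMap.lTensor_tmul, theta_tmul, LinearMap.lcomp_apply]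
    change _ = theta Q F (a ⊗ₜ f) (i.baseChange Q (b ⊗ₜ m))
    rw [LinearMap.baseChange_tmul, theta_tmul]
  | add x y hx hy => rw [map_add, map_add, map_add, map_add, hx, hy]

variable (P M) in
theorem theta_bijective [Module.Finite P M] [Module.Projective P M] :
    Function.Bijective (theta (P := P) Q M) := by
  have h1 : Function.Bijective ((LinearMap.baseChangeHom P Q M P).liftBaseChange Q) :=
    K443.AzDesc.isBaseChange_hom P Q M P
  let e : (Q ⊗[P] M →ₗ[Q] Q ⊗[P] P) ≃ₗ[Q] (Q ⊗[P] M →ₗ[Q] Q) :=
    (AlgebraTensorModule.rid P Q Q).congrRight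
  have h2 : ∀ x, theta (P := P) Q M x = e ((LinearMap.baseChangeHom P Q M P).liftBaseChange Q x) := by
    intro x
    induction x using TensorProduct.induction_on with
    | zero => simp
    | tmul a f =>
      refine TensorProduct.AlgebraTensorModule.ext fun b m => ?_
      rw [theta_tmul]
      simp [e, LinearEquiv.congrRight]
    | add x y hx hy => rw [map_add, map_add, map_add, hx, hy]
  have h3 : ⇑(theta (P := P) Q M) = e ∘ ((LinearMap.baseChangeHom P Q M P).liftBaseChange Q) :=
    funext h2
  rw [h3]
  exact e.bijective.comp h1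

end Theta

section FlatRes

variable {A P : Type u} [CommRing A] [CommRing P] [Algebra A P]

/-- Flatness over the base of a module given by its `P`-structure. -/
theorem flat_restrictScalars_iff {M : Type u} [AddCommGroup M] [Module P M] [Module A M]
    [IsScalarTower A P M] :
    Module.Flat A (RestrictScalars A P M) ↔ Module.Flat A M := by
  let e : RestrictScalars A P M ≃ₗ[A] M :=
    { RestrictScalars.addEquiv A P M with
      map_smul' := fun a x => by
        change algebraMap A P a • (show M from x) = a • (show M from x)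
        rw [algebraMap_smul] }
  exact ⟨fun h => Module.Flat.of_linearEquiv e.symm, fun h => Module.Flat.of_linearEquiv e⟩

theorem flat_restrictScalars_congr {M N : Type u} [AddCommGroup M] [AddCommGroup N] [Module P M]
    [Module P N] (e : M ≃ₗ[P] N) (h : Module.Flat A (RestrictScalars A P M)) :
    Module.Flat A (RestrictScalars A P N) := by
  let e' : RestrictScalars A P M ≃ₗ[A] RestrictScalars A P N :=
    { toFun := fun x => (RestrictScalars.addEquiv A P N).symm (e (RestrictScalars.addEquiv A P M x))
      invFun := fun y =>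
        (RestrictScalars.addEquiv A P M).symm (e.symm (RestrictScalars.addEquiv A P N y))
      left_inv := fun x => by simp
      right_inv := fun x => by simp
      map_add' := fun x y => by simp
      map_smul' := fun a x => by
        change e (algebraMap A P a • (show M from x)) = algebraMap A P a • e (show M from x)
        rw [map_smul] }
  exact Module.Flat.of_linearEquiv e'.symm

variable (A P) in
theorem flat_dual_projective (F : Type u) [AddCommGroup F] [Module P F] [Module.Finite P F]
    [Module.Projective P F] [Module.Flat A P] : Module.Flat A (F →ₗ[P] P) := by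
  have h1 : Module.Projective P (F →ₗ[P] P) := inferInstanceAs (Module.Projective P (Module.Dual P F))
  have : IsScalarTower A P (F →ₗ[P] P) := inferInstance
  exact Module.Flat.trans A P (F →ₗ[P] P)

end FlatRes

section Row

variable {A A' P P' : Type u} [CommRing A] [CommRing A'] [CommRing P] [CommRing P']
  [Algebra A A'] [Algebra A P] [Algebra A' P'] [Algebra P P'] [Algebra A P']
  [IsScalarTower A P P'] [IsScalarTower A A' P'] [Algebra.IsPushout A A' P P']
  {M₁ M₂ Z M₃ Q : Type u} [AddCommGroup M₁] [AddCommGroup M₂] [AddCommGroup Z] [AddCommGroup M₃]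
  [AddCommGroup Q] [Module P M₁] [Module P M₂] [Module P Z] [Module P M₃] [Module P Q]
  [Module A M₁] [Module A M₂] [Module A Z] [Module A M₃] [Module A Q]
  [IsScalarTower A P M₁] [IsScalarTower A P M₂] [IsScalarTower A P Z] [IsScalarTower A P M₃]
  [IsScalarTower A P Q] [Module.Flat A Z] [Module.Flat A Q]
  (a : M₁ →ₗ[P] M₂) (r : M₂ →ₗ[P] Z) (s : Z →ₗ[P] M₃) (q : M₃ →ₗ[P] Q)
  (b : M₂ →ₗ[P] M₃) (hb : s ∘ₗ r = b)
  (ha : Function.Injective a) (har : Function.Exact a r) (hr : Function.Surjective r)
  (hs : Function.Injective s) (hsq : Function.Exact s q) (hq : Function.Surjective q)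

variable (A A' P')

include A A' hb ha har hr hs hsq hq in
theorem row : Function.Injective (a.lTensor P') ∧
    Function.Exact (a.lTensor P') (b.lTensor P') := by
  have h3 : Function.Injective (s.lTensor P') :=
    Groth.Agent.Ega43.FlatKer.lTensor_injective (R₀ := A) (R := A') s q hs hsq hq
  refine ⟨Groth.Agent.Ega43.FlatKer.lTensor_injective (R₀ := A) (R := A') a r ha har hr, ?_⟩
  have h5 : Function.Exact (a.lTensor P') (r.lTensor P') := lTensor_exact P' har hr
  intro x
  rw [← h5 x, ← hb, LinearMap.lTensor_comp, LinearMap.comp_apply, map_eq_zero_iff _ h3]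

end Row

section Step

variable {A A' P P' : Type u} [CommRing A] [CommRing A'] [CommRing P] [CommRing P']
  [Algebra A A'] [Algebra A P] [Algebra A' P'] [Algebra P P'] [Algebra A P']
  [IsScalarTower A P P'] [IsScalarTower A A' P'] [Algebra.IsPushout A A' P P']
  [Module.Flat A P]
  {K F M : Type u} [AddCommGroup K] [AddCommGroup F] [AddCommGroup M]
  [Module P K] [Module P F] [Module P M] [Module A K] [Module A F] [Module A M]
  [IsScalarTower A P K] [IsScalarTower A P F] [IsScalarTower A P M]
  [Module.Finite P F] [Module.Projective P F] [Module.Flat A K] [Module.Flat A M]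
  (i : K →ₗ[P] F) (p : F →ₗ[P] M) (hex : Function.Exact i p) (hi : Function.Injective i)
  (hp : Function.Surjective p)

include hex hi hp in
omit [Module A K] [Module A F] [Module A M] [IsScalarTower A P K] [IsScalarTower A P F]
  [IsScalarTower A P M] [Module.Flat A K] [Module.Flat A M] in
theorem step_flat (hE : Module.Flat A (RestrictScalars A P
      (Abelian.Ext.{u} (ModuleCat.of P M) (ModuleCat.of P P) 1)))
    (hK : Module.Flat A (K →ₗ[P] P)) :
    Module.Flat A (LinearMap.range (LinearMap.lcomp P P i)) ∧
    Module.Flat A ((K →ₗ[P] P) ⧸ (LinearMap.range (LinearMap.lcomp P P i))) ∧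
    Module.Flat A (M →ₗ[P] P) := by
  let Z : Submodule P (K →ₗ[P] P) := LinearMap.range (LinearMap.lcomp P P i)
  have hF := flat_dual_projective A P F
  have hQ : Module.Flat A ((K →ₗ[P] P) ⧸ Z) :=
    (flat_restrictScalars_iff (A := A) (P := P)).1
      (flat_restrictScalars_congr (K682.ExtOne.equiv i p hex hi hp P).symm hE)
  have hZ : Module.Flat A Z :=
    Groth.Agent.Divis.FlatExt.flat_of_exact_left (R := A) (M₁ := Z) (M₂ := K →ₗ[P] P)
      (M₃ := (K →ₗ[P] P) ⧸ Z) (f := Z.subtype.restrictScalars A)
      (g := Z.mkQ.restrictScalars A) Z.injective_subtype (LinearMap.exact_subtype_mkQ Z)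
      Z.mkQ_surjective
  refine ⟨hZ, hQ, ?_⟩
  have h1 : Function.Exact (LinearMap.lcomp P P p) (LinearMap.lcomp P P i).rangeRestrict := by
    intro x
    have := LinearMap.exact_lcomp_of_exact_of_surjective P hex hp x
    rw [← this]
    exact ⟨fun h => congrArg Subtype.val h, fun h => Subtype.ext h⟩
  let g : (F →ₗ[P] P) →ₗ[A] Z := (LinearMap.lcomp P P i).rangeRestrict.restrictScalars A
  exact Groth.Agent.Divis.FlatExt.flat_of_exact_left (R := A) (M₁ := M →ₗ[P] P)
    (M₂ := F →ₗ[P] P) (M₃ := Z)
    (f := (LinearMap.lcomp P P p).restrictScalars A)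
    (g := g)
    (LinearMap.lcomp_injective_of_surjective p hp) h1 (LinearMap.surjective_rangeRestrict _)

variable (A A' P')

include A A' hex hi hp in
omit [Module.Flat A P] [Module.Finite P F] [Module.Projective P F] [Module.Flat A K] in
theorem exact_baseChange : Function.Exact (i.baseChange P') (p.baseChange P') ∧
    Function.Injective (i.baseChange P') ∧ Function.Surjective (p.baseChange P') :=
  ⟨lTensor_exact P' hex hp,
    Groth.Agent.Ega43.FlatKer.lTensor_injective (R₀ := A) (R := A') i p hi hex hp,
    LinearMap.lTensor_surjective P' hp⟩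

include A' hex hi hp in
omit [Module A K] [Module A F] [Module A M] [IsScalarTower A P K] [IsScalarTower A P F]
  [IsScalarTower A P M] [Module.Flat A K] [Module.Flat A M] in
theorem step_row (hE : Module.Flat A (RestrictScalars A P
      (Abelian.Ext.{u} (ModuleCat.of P M) (ModuleCat.of P P) 1)))
    (hK : Module.Flat A (K →ₗ[P] P)) :
    Function.Injective ((LinearMap.lcomp P P p).lTensor P') ∧
    Function.Exact ((LinearMap.lcomp P P p).lTensor P') ((LinearMap.lcomp P P i).lTensor P') := by
  obtain ⟨hZ, hQ, hM⟩ := step_flat (A := A) i p hex hi hp hE hK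
  have h1 : Function.Exact (LinearMap.lcomp P P p) (LinearMap.lcomp P P i).rangeRestrict := by
    intro x
    have := LinearMap.exact_lcomp_of_exact_of_surjective P hex hp x
    rw [← this]
    exact ⟨fun h => congrArg Subtype.val h, fun h => Subtype.ext h⟩
  let Z : Submodule P (K →ₗ[P] P) := LinearMap.range (LinearMap.lcomp P P i)
  exact row A A' P' (M₁ := M →ₗ[P] P) (M₂ := F →ₗ[P] P) (Z := Z) (M₃ := K →ₗ[P] P)
    (Q := (K →ₗ[P] P) ⧸ Z) (LinearMap.lcomp P P p) (LinearMap.lcomp P P i).rangeRestrict
    Z.subtype Z.mkQ (LinearMap.lcomp P P i) rfl (LinearMap.lcomp_injective_of_surjective p hp) h1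
    (LinearMap.surjective_rangeRestrict _) Z.injective_subtype (LinearMap.exact_subtype_mkQ Z)
    Z.mkQ_surjective

include A' hex hi hp in
omit [Module.Flat A K] in
theorem step_theta (hE : Module.Flat A (RestrictScalars A P
      (Abelian.Ext.{u} (ModuleCat.of P M) (ModuleCat.of P P) 1)))
    (hK : Module.Flat A (K →ₗ[P] P)) (hθ : Function.Bijective (theta (P := P) P' K)) :
    Function.Bijective (theta (P := P) P' M) := by
  obtain ⟨hex', hi', hp'⟩ := exact_baseChange A A' P' i p hex hi hp
  obtain ⟨h2, h4⟩ := step_row A A' P' i p hex hi hp hE hK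
  have h7 : Function.Exact (LinearMap.lcomp P' P' (p.baseChange P'))
      (LinearMap.lcomp P' P' (i.baseChange P')) :=
    LinearMap.exact_lcomp_of_exact_of_surjective P' hex' hp'
  have h8 : Function.Injective (LinearMap.lcomp P' P' (p.baseChange P')) :=
    LinearMap.lcomp_injective_of_surjective _ hp'
  have hθF := theta_bijective P P' F
  constructor
  · intro x y hxy
    apply h2
    apply hθF.1
    rw [theta_natural, theta_natural, hxy]
  · intro y
    obtain ⟨z, hz⟩ := hθF.2 (LinearMap.lcomp P' P' (p.baseChange P') y)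
    have h9 : (LinearMap.lcomp P P i).lTensor P' z = 0 := by
      apply hθ.1
      rw [theta_natural, hz, h7.apply_apply_eq_zero, map_zero]
    obtain ⟨x, rfl⟩ := (h4 z).1 h9
    refine ⟨x, h8 ?_⟩
    rw [← hz, theta_natural]

include A A' hex hi hp in
omit [Module.Flat A P] [Module.Flat A K] in
theorem step_ext_one (hθ : Function.Bijective (theta (P := P) P' K)) :
    Nonempty (P' ⊗[P] Abelian.Ext.{u} (ModuleCat.of P M) (ModuleCat.of P P) 1 ≃ₗ[P']
      Abelian.Ext.{u} (ModuleCat.of P' (P' ⊗[P] M)) (ModuleCat.of P' P') 1) := by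
  let Z : Submodule P (K →ₗ[P] P) := LinearMap.range (LinearMap.lcomp P P i)
  obtain ⟨hex', hi', hp'⟩ := exact_baseChange A A' P' i p hex hi hp
  have hθF := theta_bijective P P' F
  have hproj : Module.Projective P' (P' ⊗[P] F) := inferInstance
  let Z' : Submodule P' (P' ⊗[P] K →ₗ[P'] P') :=
    LinearMap.range (LinearMap.lcomp P' P' (i.baseChange P'))
  let g : P' ⊗[P] (K →ₗ[P] P) →ₗ[P'] (P' ⊗[P] K →ₗ[P'] P') ⧸ Z' := Z'.mkQ ∘ₗ theta P' K
  have hg : Function.Surjective g := Z'.mkQ_surjective.comp hθ.2
  let f : P' ⊗[P] (K →ₗ[P] P) →ₗ[P'] P' ⊗[P] ((K →ₗ[P] P) ⧸ Z) := Z.mkQ.baseChange P'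
  have hf : Function.Surjective f := LinearMap.lTensor_surjective P' Z.mkQ_surjective
  have hker : LinearMap.ker f = LinearMap.ker g := by
    ext x
    rw [LinearMap.mem_ker, LinearMap.mem_ker]
    have h1 : Function.Exact ((LinearMap.lcomp P P i).lTensor P') (Z.mkQ.lTensor P') :=
      lTensor_exact P' (LinearMap.exact_map_mkQ_range _) Z.mkQ_surjective
    have h2 : f x = 0 ↔ ∃ y, (LinearMap.lcomp P P i).lTensor P' y = x := h1 x
    rw [h2]
    change _ ↔ Z'.mkQ (theta P' K x) = 0
    rw [← LinearMap.mem_ker, Submodule.ker_mkQ]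
    constructor
    · rintro ⟨y, rfl⟩
      rw [theta_natural]
      exact ⟨_, rfl⟩
    · rintro ⟨y, hy⟩
      obtain ⟨z, rfl⟩ := hθF.2 y
      refine ⟨z, hθ.1 ?_⟩
      rw [theta_natural, hy]
  let e : P' ⊗[P] ((K →ₗ[P] P) ⧸ Z) ≃ₗ[P'] (P' ⊗[P] K →ₗ[P'] P') ⧸ Z' :=
    (f.quotKerEquivOfSurjective hf).symm.trans
      ((Submodule.quotEquivOfEq _ _ hker).trans (g.quotKerEquivOfSurjective hg))
  exact ⟨(((K682.ExtOne.equiv i p hex hi hp P).baseChange P P').symm.trans e).trans
    (K682.ExtOne.equiv (i.baseChange P') (p.baseChange P') hex' hi' hp' P')⟩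

end Step

section Main

/-- Dimension shift for a projective middle term. -/
noncomputable def shift {P : Type u} [CommRing P] {K F M : Type u} [AddCommGroup K]
    [AddCommGroup F] [AddCommGroup M] [Module P K] [Module P F] [Module P M] [Module.Projective P F]
    (i : K →ₗ[P] F) (p : F →ₗ[P] M) (hex : Function.Exact i p) (hi : Function.Injective i)
    (hp : Function.Surjective p) (N : Type u) [AddCommGroup N] [Module P N] (j : ℕ) :
    Abelian.Ext.{u} (ModuleCat.of P K) (ModuleCat.of P N) (j + 1) ≃ₗ[P]
      Abelian.Ext.{u} (ModuleCat.of P M) (ModuleCat.of P N) (j + 2) :=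
  have hproj : Projective (ModuleCat.of P F) := ModuleCat.projective_of_categoryTheory_projective _
  Groth.Agent.Sga2.RegExt.shiftContra (K682.ExtOne.shortExact i p hex hi hp) (ModuleCat.of P N)
    (j + 1) ⟨fun a b => by rw [Abelian.Ext.eq_zero_of_projective a, Abelian.Ext.eq_zero_of_projective b]⟩
    ⟨fun a b => by rw [Abelian.Ext.eq_zero_of_projective a, Abelian.Ext.eq_zero_of_projective b]⟩

theorem subsingleton_ext_of_projective {P : Type u} [CommRing P] (M N : Type u) [AddCommGroup M]
    [AddCommGroup N] [Module P M] [Module P N] [Module.Projective P M] (j : ℕ) :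
    Subsingleton (Abelian.Ext.{u} (ModuleCat.of P M) (ModuleCat.of P N) (j + 1)) := by
  have hproj : Projective (ModuleCat.of P M) := ModuleCat.projective_of_categoryTheory_projective _
  exact ⟨fun a b => by
    rw [Abelian.Ext.eq_zero_of_projective a, Abelian.Ext.eq_zero_of_projective b]⟩

variable (A A' P P' : Type u) [CommRing A] [CommRing A'] [CommRing P] [CommRing P']
  [Algebra A A'] [Algebra A P] [Algebra A' P'] [Algebra P P'] [Algebra A P']
  [IsScalarTower A P P'] [IsScalarTower A A' P'] [Algebra.IsPushout A A' P P']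
  [Module.Flat A P] [IsNoetherianRing P]

include A' in
theorem main (n : ℕ) : ∀ (M : Type u) [AddCommGroup M] [Module P M] [Module A M]
    [IsScalarTower A P M] [Module.Finite P M] [Module.Flat A M],
    HasProjectiveDimensionLT (ModuleCat.of P M) (n + 1) →
    (∀ j : ℕ, Module.Flat A (RestrictScalars A P
      (Abelian.Ext.{u} (ModuleCat.of P M) (ModuleCat.of P P) (j + 1)))) →
    Module.Flat A (M →ₗ[P] P) ∧ Function.Bijective (theta (P := P) P' M) ∧
    ∀ j : ℕ, Nonempty (P' ⊗[P] Abelian.Ext.{u} (ModuleCat.of P M) (ModuleCat.of P P) (j + 1) ≃ₗ[P']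
      Abelian.Ext.{u} (ModuleCat.of P' (P' ⊗[P] M)) (ModuleCat.of P' P') (j + 1)) := by
  induction n with
  | zero =>
    intro M _ _ _ _ _ _ h _
    have h1 : Projective (ModuleCat.of P M) := projective_iff_hasProjectiveDimensionLT_one.2 h
    have h2 : Module.Projective P M := (IsProjective.iff_projective _).2 h1
    refine ⟨flat_dual_projective A P M, theta_bijective P P' M, fun j => ?_⟩
    have h3 := subsingleton_ext_of_projective M P (P := P) j
    have h4 := subsingleton_ext_of_projective (P' ⊗[P] M) P' (P := P') j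
    have h5 : Subsingleton
        (P' ⊗[P] Abelian.Ext.{u} (ModuleCat.of P M) (ModuleCat.of P P) (j + 1)) :=
      inferInstance
    exact ⟨LinearEquiv.ofSubsingleton _ _⟩
  | succ n ih =>
    intro M _ _ _ _ _ _ h hE
    obtain ⟨r, p, hp⟩ := Module.Finite.exists_fin' P M
    let K := LinearMap.ker p
    let i : K →ₗ[P] (Fin r → P) := K.subtype
    have hi : Function.Injective i := K.injective_subtype
    have hex : Function.Exact i p := LinearMap.exact_subtype_ker_map p
    have hproj : Projective (ModuleCat.of P (Fin r → P)) :=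
      ModuleCat.projective_of_categoryTheory_projective _
    have hflatF : Module.Flat A (Fin r → P) := Module.Flat.trans A P (Fin r → P)
    have hK : Module.Flat A K :=
      Groth.Agent.Divis.FlatExt.flat_of_exact_left (R := A) (M₁ := K) (M₂ := Fin r → P) (M₃ := M)
        (f := i.restrictScalars A) (g := p.restrictScalars A) hi hex hp
    have hKfin : Module.Finite P K := inferInstance
    have hpd : HasProjectiveDimensionLT (ModuleCat.of P K) (n + 1) :=
      (K682.ExtOne.shortExact i p hex hi hp).hasProjectiveDimensionLT_X₁ (n + 1)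
        (hasProjectiveDimensionLT_of_ge (ModuleCat.of P (Fin r → P)) 1 _ (by omega)) h
    obtain ⟨h1, h2, h3⟩ := ih K hpd fun j =>
      flat_restrictScalars_congr (shift i p hex hi hp P j).symm (hE (j + 1))
    obtain ⟨-, -, h4⟩ := step_flat (A := A) i p hex hi hp (hE 0) h1
    obtain ⟨hex', hi', hp'⟩ := exact_baseChange A A' P' i p hex hi hp
    refine ⟨h4, step_theta A A' P' i p hex hi hp (hE 0) h1 h2, fun j => ?_⟩
    rcases j with _ | j
    · exact step_ext_one A A' P' i p hex hi hp h2
    · obtain ⟨e⟩ := h3 j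
      have hproj' : Module.Projective P' (P' ⊗[P] (Fin r → P)) := inferInstance
      exact ⟨(((shift i p hex hi hp P j).baseChange P P').symm.trans e).trans
        (shift (i.baseChange P') (p.baseChange P') hex' hi' hp' P' j)⟩

end Main

end K173.ExtBC
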