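import Groth.Agent.LoccohB.RAdjFin
import Groth.Agent.LoccohB.ShriekHD
import Groth.Agent.LoccohB.RAdj
import Groth.Prelude.Def_DualSh
import Groth.Agent.Sga2.RegExt

/-!
# `H^i(φ^!(R)) = Ext^{i+n}_P(A, P)`

`P = R[x_1, …, x_n]`, `I` an ideal, `A = P/I`, `ψ : P → A`.
-/

set_option autoImplicit false
universe u

open CategoryTheory CategoryTheory.Limits DerivedCategory

attribute [local instance] HasDerivedCategory.standard

namespace K173.ShriekExt

open Groth.Agent.LoccohB Groth.Agent.LoccohB.RAdjFin Groth.Agent.LoccohB.HomBC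
  Groth.Agent.LoccohB.LBC

section General

variable {P A : Type u} [CommRing P] [CommRing A] (ψ : P →+* A) {R : Dual.D P ⥤ Dual.D A}
  (adj : DRing.restrictD ψ ⊣ R)

/-- Additive equivalences compatible with a ring map. -/
structure SemiEquiv (φ : P →+* A) (M N : Type u) [AddCommGroup M] [Module A M] [AddCommGroup N]
    [Module P N] where
  /-- the equivalence -/
  e : M ≃+ N
  smul : ∀ (a : P) (x : M), e (φ a • x) = a • e x

variable {ψ}

/-- Precomposition with a linear equivalence. -/
def SemiEquiv.comp {M M' N : Type u} [AddCommGroup M] [Module A M] [AddCommGroup M'] [Module A M']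
    [AddCommGroup N] [Module P N] (f : M' ≃ₗ[A] M) (g : SemiEquiv ψ M N) : SemiEquiv ψ M' N where
  e := f.toAddEquiv.trans g.e
  smul a x := by
    change g.e (f (ψ a • x)) = a • g.e (f x)
    rw [map_smul, g.smul]

/-- Postcomposition with a linear equivalence. -/
def SemiEquiv.trans {M N N' : Type u} [AddCommGroup M] [Module A M]
    [AddCommGroup N] [Module P N] [AddCommGroup N'] [Module P N'] (g : SemiEquiv ψ M N)
    (f : N ≃ₗ[P] N') : SemiEquiv ψ M N' where
  e := g.e.trans f.toAddEquiv
  smul a x := by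
    change f (g.e (ψ a • x)) = a • f (g.e x)
    rw [g.smul, map_smul]

/-- `H^i(R(N[0])) = Ext^i(A, N)`. -/
noncomputable def hdExt (N : ModuleCat.{u} P) (i : ℕ) :
    SemiEquiv ψ (Dual.HD A (R.obj (Dual.inD P N)) (i : ℤ))
      (Abelian.Ext ((ModuleCat.restrictScalars.{u} ψ).obj (ModuleCat.of A A)) N i) where
  e := (hdRadjEquiv adj (Dual.inD P N) i).trans
    (Abelian.Ext.homLinearEquiv (R := P)).symm.toAddEquiv
  smul a x := by
    change (Abelian.Ext.homLinearEquiv (R := P)).symm (hdRadjEquiv adj (Dual.inD P N) i (ψ a • x)) =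
      a • (Abelian.Ext.homLinearEquiv (R := P)).symm (hdRadjEquiv adj (Dual.inD P N) i x)
    rw [hdRadjEquiv_smul, map_smul]

/-- Cohomology of a shift. -/
noncomputable def hdShift (K : Dual.D A) (n i j : ℤ) (h : n + i = j) :
    Dual.HD A (K⟦n⟧) i ≃ₗ[A] Dual.HD A K j :=
  (((homologyFunctor (ModuleCat.{u} A) 0).shiftIso n i j h).app K).toLinearEquiv

/-- Flatness over a base ring is transported. -/
theorem flat_of_semiEquiv {R₀ : Type u} [CommRing R₀] [Algebra R₀ P] [Algebra R₀ A]
    (φ : P →ₐ[R₀] A) {M : ModuleCat.{u} A} {N : Type u} [AddCommGroup N] [Module P N]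
    (e : SemiEquiv φ.toRingHom M N)
    (h : Module.Flat R₀ ((ModuleCat.restrictScalars (algebraMap R₀ A)).obj M)) :
    Module.Flat R₀ (RestrictScalars R₀ P N) :=
  Module.Flat.of_linearEquiv (LinearEquiv.symm
    { toFun := fun (x : (ModuleCat.restrictScalars (algebraMap R₀ A)).obj M) =>
        (RestrictScalars.addEquiv R₀ P N).symm (e.e x)
      invFun := fun y => e.e.symm (RestrictScalars.addEquiv R₀ P N y)
      left_inv := fun x => by simp
      right_inv := fun x => by simp
      map_add' := fun x y => by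
        change (RestrictScalars.addEquiv R₀ P N).symm (e.e (_ + _)) = _
        rw [map_add, map_add]
      map_smul' := fun a x => by
        have h1 : e.e (algebraMap R₀ A a • (x : M)) = algebraMap R₀ P a • e.e x := by
          rw [← e.smul]
          congr 2
          exact (φ.commutes a).symm
        change (RestrictScalars.addEquiv R₀ P N).symm (e.e (algebraMap R₀ A a • (x : M))) =
          a • (RestrictScalars.addEquiv R₀ P N).symm (e.e x)
        rw [h1]
        rfl })

end General

section Poly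

variable {A : Type u} [CommRing A] {N : ℕ} (I : Ideal (MvPolynomial (Fin N) A))

/-- The presentation. -/
noncomputable abbrev psi : MvPolynomial (Fin N) A →ₐ[A] (MvPolynomial (Fin N) A ⧸ I) :=
  Ideal.Quotient.mkₐ A I

/-- The restriction of `P/I` is `P/I`. -/
noncomputable def resIso : (ModuleCat.restrictScalars.{u} (psi I).toRingHom).obj
    (ModuleCat.of (MvPolynomial (Fin N) A ⧸ I) (MvPolynomial (Fin N) A ⧸ I)) ≅
      ModuleCat.of (MvPolynomial (Fin N) A) (MvPolynomial (Fin N) A ⧸ I) :=
  LinearEquiv.toModuleIso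
    { toFun := fun x => x
      invFun := fun x => x
      left_inv := fun _ => rfl
      right_inv := fun _ => rfl
      map_add' := fun _ _ => rfl
      map_smul' := fun a x => by
        obtain ⟨x, rfl⟩ := Ideal.Quotient.mk_surjective x
        rfl }

variable [DRing.HasLBaseChange (algebraMap A (MvPolynomial (Fin N) A))]
  {Rψ : Dual.D (MvPolynomial (Fin N) A) ⥤ Dual.D (MvPolynomial (Fin N) A ⧸ I)}
  (adj : DRing.restrictD (psi I).toRingHom ⊣ Rψ)

/-- `ω = R(P)[N]`. -/
noncomputable def shriekIso : Dual2.shriekVia N Rψ (Dual.inD A A) ≅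
    (Rψ.obj (Dual.inD (MvPolynomial (Fin N) A) (MvPolynomial (Fin N) A)))⟦(N : ℤ)⟧ :=
  (shiftFunctor _ (N : ℤ)).mapIso (Rψ.mapIso
    (lbcSelfIso (algebraMap A (MvPolynomial (Fin N) A)) 0))

/-- `H^i(ω) = Ext^{N+i}_P(A, P)`. -/
noncomputable def shriekExt (i : ℤ) (j : ℕ) (h : (N : ℤ) + i = j) :
    SemiEquiv (psi I).toRingHom
      (Dual.HD (MvPolynomial (Fin N) A ⧸ I) (Dual2.shriekVia N Rψ (Dual.inD A A)) i)
      (Abelian.Ext (ModuleCat.of (MvPolynomial (Fin N) A) (MvPolynomial (Fin N) A ⧸ I))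
        (ModuleCat.of (MvPolynomial (Fin N) A) (MvPolynomial (Fin N) A)) j) :=
  SemiEquiv.comp
    ((((homologyFunctor (ModuleCat.{u} (MvPolynomial (Fin N) A ⧸ I)) i).mapIso
      (shriekIso I)).toLinearEquiv).trans (hdShift _ N i j h))
    (SemiEquiv.trans (hdExt adj (ModuleCat.of (MvPolynomial (Fin N) A)
        (MvPolynomial (Fin N) A)) j)
      (Groth.Agent.Sga2.RegExt.extEquivLeft _ (resIso I).symm j))

include adj in
theorem subsingleton_HD_of_neg (i : ℤ) (h : (N : ℤ) + i < 0) :
    Subsingleton (Dual.HD (MvPolynomial (Fin N) A ⧸ I)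
      (Dual2.shriekVia N Rψ (Dual.inD A A)) i) := by
  have h1 : (Rψ.obj (Dual.inD (MvPolynomial (Fin N) A) (MvPolynomial (Fin N) A))).IsGE 0 := by
    have : (Dual.inD (MvPolynomial (Fin N) A) (MvPolynomial (Fin N) A)).IsGE 0 := inferInstance
    exact isGE_radj adj _ 0
  have h2 : Subsingleton (Dual.HD (MvPolynomial (Fin N) A ⧸ I)
      (Rψ.obj (Dual.inD (MvPolynomial (Fin N) A) (MvPolynomial (Fin N) A))) (N + i)) :=
    ModuleCat.isZero_iff_subsingleton.1 (((isGE_iff _ _).1 h1) _ h)
  exact (((((homologyFunctor (ModuleCat.{u} (MvPolynomial (Fin N) A ⧸ I)) i).mapIso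
      (shriekIso I)).toLinearEquiv).trans (hdShift _ N i _ rfl))).toEquiv.subsingleton_congr.2 h2

end Poly

end K173.ShriekExt
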