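import Groth.Agent.Dual.K173.ExtModel
import Groth.Agent.Dual.K173.ShriekExt

/-!
# `Ext^j_{A[t]}(A[t]/I, A[t])` for Cohen–Macaulay fibres of pure dimension
-/

set_option autoImplicit false
universe u

open CategoryTheory AlgebraicGeometry
open scoped TensorProduct

attribute [local instance] MvPolynomial.algebraMvPolynomial

namespace K173.ExtCM

open K173.PolyModel Groth.Agent Groth.Agent.Ega4C

theorem cmn_of_fibres {A B : Type u} [CommRing A] [CommRing B] [Algebra A B] [Module.Flat A B]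
    [Algebra.FiniteType A B] (n : ℕ)
    (hCM : ∀ p : PrimeSpectrum A, LocCoh.IsCohenMacaulayRing (B ⊗[A] p.asIdeal.ResidueField))
    (hd : ∀ (p : PrimeSpectrum A) (Q : PrimeSpectrum (B ⊗[A] p.asIdeal.ResidueField)),
      Q.asIdeal ∈ minimalPrimes (B ⊗[A] p.asIdeal.ResidueField) → Order.coheight Q = (n : ℕ∞))
    (q : PrimeSpectrum B) : CMn n A q := by
  refine ⟨(K173.CMLoc.isCMAt_iff q).2 ⟨K173.CMLoc.flat_stalkMap _, ?_⟩,
    K173.PureFib.fibreDimAt_eq' n hd q⟩
  let p : PrimeSpectrum A := ⟨q.asIdeal.comap (algebraMap A B), inferInstance⟩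
  have h1 : LocCoh.IsCohenMacaulayRing (p.asIdeal.Fiber B) :=
    Groth.Agent.Ega4C.SkField.isCMRing_of_ringEquiv (K173.PureFib.fibEquiv p) (hCM p)
  obtain ⟨Q, hQ, hQq⟩ := FibreTower.exists_prime_fibre p.asIdeal q.asIdeal rfl
  have h2 : LocCoh.IsCohenMacaulayLocalRing (Localization.AtPrime Q) :=
    h1.isCohenMacaulayLocalRing_localization Q
  rw [FlatLocal.isCM_congr (R := Localization.AtPrime Q)
    (FibreTower.locFibreEquiv p.asIdeal Q)] at h2
  exact Groth.Agent.Dual.H318.CMRing.isCM_congr hQq h2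

section Noeth

variable (A : Type u) [CommRing A] [IsNoetherianRing A] (N n : ℕ) (hnN : n ≤ N)
  (I : Ideal (MvPolynomial (Fin N) A)) [Module.Flat A (MvPolynomial (Fin N) A ⧸ I)]

include hnN in
theorem noeth (h : ∀ q : PrimeSpectrum (MvPolynomial (Fin N) A ⧸ I), CMn n A q) :
    (∀ j : ℕ, j ≠ N - n → Subsingleton (Abelian.Ext
      (ModuleCat.of (MvPolynomial (Fin N) A) (MvPolynomial (Fin N) A ⧸ I))
      (ModuleCat.of (MvPolynomial (Fin N) A) (MvPolynomial (Fin N) A)) j)) ∧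
    Module.Flat A (RestrictScalars A (MvPolynomial (Fin N) A) (Abelian.Ext
      (ModuleCat.of (MvPolynomial (Fin N) A) (MvPolynomial (Fin N) A ⧸ I))
      (ModuleCat.of (MvPolynomial (Fin N) A) (MvPolynomial (Fin N) A)) (N - n))) := by
  have hL : DRing.HasLBaseChange (algebraMap A (MvPolynomial (Fin N) A)) :=
    Groth.Agent.LoccohB.LBC.hasLBaseChange _
  have hNoeP : IsNoetherianRing (MvPolynomial (Fin N) A) := inferInstance
  have hsurj : Function.Surjective (K173.ShriekExt.psi I) := Ideal.Quotient.mk_surjective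
  let adj := Groth.Agent.LoccohB.RAdj.coextAdj (K173.ShriekExt.psi I).toRingHom
  have hc : (N : ℤ) + -(n : ℤ) = ((N - n : ℕ) : ℤ) := by omega
  have key := fun (i : ℤ) (j : ℕ) (h : (N : ℤ) + i = j) => K173.ShriekExt.shriekExt I adj i j h
  obtain ⟨h1, -, h3⟩ := Groth.Agent.Dual.H318.CMRing.ring_main N (K173.ShriekExt.psi I) hsurj
    (Groth.Agent.LoccohB.RAdj.RCoext (K173.ShriekExt.psi I).toRingHom) adj n
    (fun q => ((K173.CMLoc.isCMAt_iff q).1 (h q).1).2) (fun q => (h q).2)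
  refine ⟨fun j hj => ?_, ?_⟩
  · have h4 := h1 (j - N) (by omega)
    exact (key (j - N) j (by omega)).e.toEquiv.subsingleton_congr.1 h4
  · exact K173.ShriekExt.flat_of_semiEquiv (K173.ShriekExt.psi I) (key _ _ hc) h3

end Noeth

end K173.ExtCM
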