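import Groth.Agent.Sga2.RegExt2

/-!
# `Ext^p(M, N) = Hom(M, Ext^p(A/J, N))` for `M` killed by `J` when the lower `Ext`s vanish
-/

set_option autoImplicit false
universe u

open CategoryTheory Abelian Limits

namespace K173.ExtHom

open Groth.Agent.Sga2.RegExt

variable {A : Type u} [CommRing A]

section Pres

variable {J : Ideal A} {M : Type u} [AddCommGroup M] [Module A M] {n : ℕ}
  (g : Fin n → (A ⧸ J) →ₗ[A] M)

/-- `(A/J)^n → M` given by `n` maps. -/
noncomputable def pr : (Fin n → A ⧸ J) →ₗ[A] M := LinearMap.lsum A _ A g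

lemma ofHom_pr : ModuleCat.ofHom (pr g) =
    ∑ i, ModuleCat.ofHom (LinearMap.proj (R := A) (φ := fun _ : Fin n => A ⧸ J) i) ≫
      ModuleCat.ofHom (g i) := by
  ext1
  rw [ModuleCat.hom_sum]
  simp only [ModuleCat.hom_comp, ModuleCat.hom_ofHom]
  ext i
  simp [pr, LinearMap.lsum_apply]

lemma exists_pr (hM : ∀ a ∈ J, ∀ x : M, a • x = 0) [Module.Finite A M] :
    ∃ (n : ℕ) (g : Fin n → (A ⧸ J) →ₗ[A] M), Function.Surjective (pr g) := by
  obtain ⟨n, s, hs⟩ := Module.Finite.exists_fin (R := A) (M := M)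
  let g : Fin n → (A ⧸ J) →ₗ[A] M := fun i => (homQuotEquiv J M hM).symm (s i)
  have hg : ∀ i, g i 1 = s i := fun i => (homQuotEquiv J M hM).apply_symm_apply (s i)
  refine ⟨n, g, ?_⟩
  rw [← LinearMap.range_eq_top, eq_top_iff, ← hs, Submodule.span_le]
  rintro _ ⟨i, rfl⟩
  refine ⟨Pi.single i 1, ?_⟩
  rw [← hg i]
  simp only [pr, LinearMap.lsum_apply, LinearMap.coe_sum, LinearMap.coe_comp, Finset.sum_apply,
    Function.comp_apply, LinearMap.proj_apply]
  rw [Finset.sum_eq_single i]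
  · simp
  · intro j _ hj
    simp [Pi.single_eq_of_ne hj]
  · simp

end Pres

lemma killed_pi {J : Ideal A} {n : ℕ} (a : A) (ha : a ∈ J) (x : Fin n → A ⧸ J) : a • x = 0 := by
  funext i
  obtain ⟨m, hm⟩ := Submodule.Quotient.mk_surjective _ (x i)
  rw [Pi.smul_apply, ← hm, ← Submodule.Quotient.mk_smul, Pi.zero_apply,
    Submodule.Quotient.mk_eq_zero]
  exact Ideal.mul_mem_right _ _ ha

variable [IsNoetherianRing A] (J : Ideal A) (N : ModuleCat.{u} A) (p : ℕ)
  (hvan : ∀ (K : Type u) [AddCommGroup K] [Module A K] [Module.Finite A K],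
    (∀ a ∈ J, ∀ x : K, a • x = 0) → ∀ i : ℕ, i < p → Subsingleton (Ext (ModuleCat.of A K) N i))

include hvan

theorem precomp_injective {M M' : Type u} [AddCommGroup M] [Module A M] [Module.Finite A M]
    [AddCommGroup M'] [Module A M'] (hM : ∀ a ∈ J, ∀ x : M, a • x = 0)
    (q : M →ₗ[A] M') (hq : Function.Surjective q) (y : Ext (ModuleCat.of A M') N p)
    (hy : (Ext.mk₀ (ModuleCat.ofHom q)).comp y (zero_add p) = 0) : y = 0 := by
  have hS := LinearMap.shortExact_shortComplexKer hq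
  rcases p with _ | p
  · have : Epi (ModuleCat.ofHom q) := (ModuleCat.epi_iff_surjective _).2 hq
    exact Ext.precomp_mk₀_injective_of_epi N (ModuleCat.ofHom q)
      (a₁ := y) (a₂ := 0) (by rw [map_zero]; exact hy)
  · obtain ⟨z, hz⟩ := Ext.contravariant_sequence_exact₃ hS N y hy (n₀ := p) (add_comm _ _)
    have := hvan (LinearMap.ker q) (fun a ha x => Subtype.ext (hM a ha x)) p (Nat.lt_succ_self p)
    rw [← hz, Subsingleton.elim z 0, Ext.comp_zero]

theorem eq_zero_of_forall_cyclic {M : Type u} [AddCommGroup M] [Module A M] [Module.Finite A M]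
    (hM : ∀ a ∈ J, ∀ x : M, a • x = 0) (w : Ext (ModuleCat.of A M) N p)
    (hw : ∀ g : (A ⧸ J) →ₗ[A] M, (Ext.mk₀ (ModuleCat.ofHom g)).comp w (zero_add p) = 0) :
    w = 0 := by
  obtain ⟨n, g, hg⟩ := exists_pr hM
  refine precomp_injective J N p hvan killed_pi (pr g) hg w ?_
  rw [ofHom_pr, Ext.mk₀_sum, Ext.sum_comp]
  refine Finset.sum_eq_zero fun i _ => ?_
  rw [← Ext.mk₀_comp_mk₀_assoc, hw, Ext.comp_zero]

theorem exists_of_hom {M : Type u} [AddCommGroup M] [Module A M] [Module.Finite A M]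
    (hM : ∀ a ∈ J, ∀ x : M, a • x = 0)
    (φ : ((A ⧸ J) →ₗ[A] M) →ₗ[A] Ext (ModuleCat.of A (A ⧸ J)) N p) :
    ∃ ξ : Ext (ModuleCat.of A M) N p, ∀ u : (A ⧸ J) →ₗ[A] M,
      φ u = (Ext.mk₀ (ModuleCat.ofHom u)).comp ξ (zero_add p) := by
  obtain ⟨n, g, hg⟩ := exists_pr hM
  let F := ModuleCat.of A (Fin n → A ⧸ J)
  -- the class on the free module
  let η : Ext F N p := ∑ i, (Ext.mk₀ (ModuleCat.ofHom
    (LinearMap.proj (R := A) (φ := fun _ : Fin n => A ⧸ J) i))).comp (φ (g i)) (zero_add p)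
  -- its pullback along `A/J → (A/J)^n`
  have key (v : (A ⧸ J) →ₗ[A] (Fin n → A ⧸ J)) :
      (Ext.mk₀ (ModuleCat.ofHom v)).comp η (zero_add p) = φ (pr g ∘ₗ v) := by
    have h1 (i : Fin n) : ∃ a : A, (LinearMap.proj (R := A) (φ := fun _ : Fin n => A ⧸ J) i) ∘ₗ v =
        a • LinearMap.id := by
      obtain ⟨a, ha⟩ := Submodule.Quotient.mk_surjective _ (v 1 i)
      refine ⟨a, ?_⟩
      refine Submodule.linearMap_qext _ (LinearMap.ext_ring ?_)
      change v 1 i = a • (Submodule.Quotient.mk 1 : A ⧸ J)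
      rw [← ha, ← Submodule.Quotient.mk_smul, smul_eq_mul, mul_one]
    choose a ha using h1
    have h2 : pr g ∘ₗ v = ∑ i, a i • g i := by
      refine LinearMap.ext fun x => ?_
      rw [LinearMap.comp_apply, pr, LinearMap.lsum_apply, LinearMap.sum_apply, LinearMap.sum_apply]
      refine Finset.sum_congr rfl fun i _ => ?_
      have h3 := LinearMap.congr_fun (ha i) x
      change g i (v x i) = a i • g i x
      change v x i = a i • x at h3
      rw [h3, map_smul]
    rw [h2, map_sum, Ext.comp_sum]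
    refine Finset.sum_congr rfl fun i _ => ?_
    rw [Ext.mk₀_comp_mk₀_assoc, map_smul]
    have h4 : ModuleCat.ofHom v ≫ ModuleCat.ofHom
        (LinearMap.proj (R := A) (φ := fun _ : Fin n => A ⧸ J) i) = a i • 𝟙 _ := by
      rw [← ModuleCat.ofHom_comp, ha]
      rfl
    rw [h4, Ext.mk₀_smul, Ext.smul_comp, Ext.mk₀_id_comp]
  have hS := LinearMap.shortExact_shortComplexKer hg
  have hη : (Ext.mk₀ (pr g).shortComplexKer.f).comp η (zero_add p) = 0 := by
    refine eq_zero_of_forall_cyclic J N p hvan (M := LinearMap.ker (pr g))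
      (fun a ha x => Subtype.ext (killed_pi a ha _)) _ fun k => ?_
    have h5 : ModuleCat.ofHom k ≫ (pr g).shortComplexKer.f =
        ModuleCat.ofHom ((LinearMap.ker (pr g)).subtype ∘ₗ k) := rfl
    rw [Ext.mk₀_comp_mk₀_assoc, h5, key]
    have h6 : pr g ∘ₗ (LinearMap.ker (pr g)).subtype ∘ₗ k = 0 := by
      ext
      exact (k _).2
    rw [h6, map_zero]
  obtain ⟨ξ, hξ⟩ := Ext.contravariant_sequence_exact₂ hS N η hη
  refine ⟨ξ, fun u => ?_⟩
  -- lift `u`
  obtain ⟨f, hf⟩ := hg (u 1)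
  let v : (A ⧸ J) →ₗ[A] (Fin n → A ⧸ J) := (homQuotEquiv J _ killed_pi).symm f
  have hv : pr g ∘ₗ v = u := by
    refine Submodule.linearMap_qext _ (LinearMap.ext_ring ?_)
    have h7 : v 1 = f := (homQuotEquiv J _ killed_pi).apply_symm_apply f
    change pr g (v 1) = u 1
    rw [h7, hf]
  rw [← hv, ← key, ← hξ]
  change _ = (Ext.mk₀ (ModuleCat.ofHom v ≫ ModuleCat.ofHom (pr g))).comp ξ (zero_add p)
  rw [← Ext.mk₀_comp_mk₀_assoc]

end K173.ExtHom
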