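import Groth.Agent.Flat2H.PairModel
import Groth.Agent.ParaF.K588.QBase
import Groth.Agent.Dual.K173.CMLoc

/-!
# Noetherian models of `A[t_1, …, t_N]/I`

* `exists_flat_model`: `I` finitely generated, `A[t]/I` flat over `A`: there are a Noetherian
  ring `A₀`, `A₀ → A` injective and `I₀` with `A₀[t]/I₀` flat over `A₀` and `I = I₀ A[t]`.
* `exists_cm_model`: if moreover the fibres of `A[t]/I` over `A` are Cohen–Macaulay of pure
  dimension `n`, then `A₀`, `I₀` can be chosen with the same property.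
-/

set_option autoImplicit false
universe u

open CategoryTheory AlgebraicGeometry
open scoped TensorProduct

attribute [local instance] MvPolynomial.algebraMvPolynomial

namespace K173.PolyModel

open Groth.Agent

section Push

variable (N : ℕ) (A₁ A₂ : Type u) [CommRing A₁] [CommRing A₂] [Algebra A₁ A₂]
  (I : Ideal (MvPolynomial (Fin N) A₁))

/-- The extended ideal. -/
noncomputable abbrev ext : Ideal (MvPolynomial (Fin N) A₂) :=
  I.map (algebraMap (MvPolynomial (Fin N) A₁) (MvPolynomial (Fin N) A₂))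

theorem scalarTower : IsScalarTower A₁ (MvPolynomial (Fin N) A₁ ⧸ I)
    (MvPolynomial (Fin N) A₂ ⧸ ext N A₁ A₂ I) :=
  IsScalarTower.of_algebraMap_eq (R := A₁) (S := MvPolynomial (Fin N) A₁ ⧸ I)
    (A := MvPolynomial (Fin N) A₂ ⧸ ext N A₁ A₂ I) fun a => by
    change Ideal.Quotient.mk (ext N A₁ A₂ I) (algebraMap A₁ (MvPolynomial (Fin N) A₂) a) =
      Ideal.Quotient.mk (ext N A₁ A₂ I)
        (algebraMap (MvPolynomial (Fin N) A₁) (MvPolynomial (Fin N) A₂)
        (algebraMap A₁ (MvPolynomial (Fin N) A₁) a))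
    rw [← IsScalarTower.algebraMap_apply A₁ (MvPolynomial (Fin N) A₁) (MvPolynomial (Fin N) A₂)]

theorem isPushout_quot :
    letI := scalarTower N A₁ A₂ I
    Algebra.IsPushout A₁ A₂ (MvPolynomial (Fin N) A₁ ⧸ I)
      (MvPolynomial (Fin N) A₂ ⧸ ext N A₁ A₂ I) := by
  have h0 := scalarTower N A₁ A₂ I
  have h1 : Algebra.IsPushout (MvPolynomial (Fin N) A₁) (MvPolynomial (Fin N) A₁ ⧸ I)
      (MvPolynomial (Fin N) A₂) (MvPolynomial (Fin N) A₂ ⧸ ext N A₁ A₂ I) :=
    (K588.QBase.isPushout_quotient (MvPolynomial (Fin N) A₁) (MvPolynomial (Fin N) A₂) I).symm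
  have h2 : Algebra.IsPushout A₁ (MvPolynomial (Fin N) A₁ ⧸ I) A₂
      (MvPolynomial (Fin N) A₂ ⧸ ext N A₁ A₂ I) :=
    (Algebra.IsPushout.comp_iff A₁ (MvPolynomial (Fin N) A₁) A₂ (MvPolynomial (Fin N) A₂)
      (T := MvPolynomial (Fin N) A₁ ⧸ I) (T' := MvPolynomial (Fin N) A₂ ⧸ ext N A₁ A₂ I)).2 h1
  exact h2.symm

theorem algebraMap_tower (A₃ : Type u) [CommRing A₃] [Algebra A₂ A₃] [Algebra A₁ A₃]
    [IsScalarTower A₁ A₂ A₃] :
    (algebraMap (MvPolynomial (Fin N) A₂) (MvPolynomial (Fin N) A₃)).comp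
      (algebraMap (MvPolynomial (Fin N) A₁) (MvPolynomial (Fin N) A₂)) =
    algebraMap (MvPolynomial (Fin N) A₁) (MvPolynomial (Fin N) A₃) := by
  change (MvPolynomial.map _).comp (MvPolynomial.map _) = MvPolynomial.map _
  ext x
  · simp [← IsScalarTower.algebraMap_apply A₁ A₂ A₃]
  · simp

theorem ext_ext (A₃ : Type u) [CommRing A₃] [Algebra A₂ A₃] [Algebra A₁ A₃]
    [IsScalarTower A₁ A₂ A₃] : ext N A₂ A₃ (ext N A₁ A₂ I) = ext N A₁ A₃ I := by
  unfold ext
  rw [Ideal.map_map, algebraMap_tower]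

end Push

section Model

variable {N : ℕ} {A : Type u} [CommRing A]

theorem exists_coeff_model (T : Finset (MvPolynomial (Fin N) A)) (A₀ : Type u) [CommRing A₀]
    [Algebra A₀ A] :
    ∃ (A₁ : Type u) (_ : CommRing A₁) (_ : Algebra A₀ A₁) (_ : Algebra A₁ A)
      (_ : IsScalarTower A₀ A₁ A), Algebra.FiniteType A₀ A₁ ∧
      Function.Injective (algebraMap A₁ A) ∧
      ∀ t ∈ T, t ∈ Set.range (algebraMap (MvPolynomial (Fin N) A₁) (MvPolynomial (Fin N) A)) := by
  classical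
  let s : Finset A := T.biUnion fun t => t.coeffs
  refine ⟨Algebra.adjoin A₀ (s : Set A), inferInstance, inferInstance, inferInstance,
    inferInstance, .adjoin_of_finite (Finset.finite_toSet _), Subtype.val_injective,
    fun t ht => ?_⟩
  change t ∈ Set.range (MvPolynomial.map _)
  rw [MvPolynomial.mem_range_map_iff_coeffs_subset]
  intro a ha
  exact ⟨⟨a, Algebra.subset_adjoin (Finset.mem_coe.2 (Finset.mem_biUnion.2 ⟨t, ht, ha⟩))⟩, rfl⟩

theorem exists_flat_model (I : Ideal (MvPolynomial (Fin N) A)) (hI : I.FG)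
    [Module.Flat A (MvPolynomial (Fin N) A ⧸ I)] :
    ∃ (A₀ : Type u) (_ : CommRing A₀) (_ : Algebra A₀ A) (I₀ : Ideal (MvPolynomial (Fin N) A₀)),
      IsNoetherianRing A₀ ∧ Module.Flat A₀ (MvPolynomial (Fin N) A₀ ⧸ I₀) ∧
      I = ext N A₀ A I₀ := by
  classical
  obtain ⟨T, hT⟩ := hI
  obtain ⟨A₁, _, _, _, _, hft, -, hT₁⟩ := exists_coeff_model T (Int.castRingHom A).range
  have hN₁ : IsNoetherianRing A₁ := Algebra.FiniteType.isNoetherianRing (Int.castRingHom A).range A₁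
  let φ : MvPolynomial (Fin N) A₁ →+* MvPolynomial (Fin N) A := algebraMap _ _
  let I₁ : Ideal (MvPolynomial (Fin N) A₁) := Ideal.span (φ ⁻¹' (T : Set _))
  have hI₁ : ext N A₁ A I₁ = I := by
    change I₁.map φ = I
    rw [Ideal.map_span, Set.image_preimage_eq_of_subset (fun t ht => hT₁ t ht), ← hT]
  have hfl : Module.Flat A (A ⊗[A₁] (MvPolynomial (Fin N) A₁ ⧸ I₁)) := by
    rw [Flat2H.PairModel.flat_quotient_iff (R₀ := A₁) (A := A) (P₀ := MvPolynomial (Fin N) A₁)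
      (P := MvPolynomial (Fin N) A) I₁]
    change Module.Flat A (MvPolynomial (Fin N) A ⧸ ext N A₁ A I₁)
    rw [hI₁]
    infer_instance
  have hfp : Module.FinitePresentation (MvPolynomial (Fin N) A₁)
      (MvPolynomial (Fin N) A₁ ⧸ I₁) := Module.finitePresentation_of_finite _ _
  obtain ⟨A₂, _, _, _, _, hft₂, hfl₂⟩ := Flat2H.PairModel.exists_flat_stage' (A₀ := A₁) (A := A)
    (MvPolynomial (Fin N) A₁) (MvPolynomial (Fin N) A₁ ⧸ I₁)
  have hN₂ : IsNoetherianRing A₂ := Algebra.FiniteType.isNoetherianRing A₁ A₂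
  refine ⟨A₂, inferInstance, inferInstance, ext N A₁ A₂ I₁, hN₂, ?_, ?_⟩
  · exact (Flat2H.PairModel.flat_quotient_iff (R₀ := A₁) (A := A₂)
      (P₀ := MvPolynomial (Fin N) A₁) (P := MvPolynomial (Fin N) A₂) I₁).1 hfl₂
  · rw [← hI₁]
    exact (ext_ext N A₁ A₂ I₁ A).symm

end Model

section CM

/-- `Spec C → Spec A` is Cohen–Macaulay of relative dimension `n` at `q`. -/
def CMn (n : ℕ) (A : Type u) {C : Type u} [CommRing A] [CommRing C] [Algebra A C]
    (q : PrimeSpectrum C) : Prop :=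
  K902.LociDim.AndDim (fun _ _ f x => MoreMor.IsCMAt f x) (n : WithBot ℕ∞)
    (Spec.map (CommRingCat.ofHom (algebraMap A C))) q

theorem locusProp (n : ℕ) : K901.Loci.LocusProp.{u}
    (K902.LociDim.AndDim (fun _ _ f x => MoreMor.IsCMAt f x) (n : WithBot ℕ∞)) :=
  K902.LociDim.locusProp_andDim K901.Loci.locusProp_cm (fun _ _ _ _ h => h) n

theorem flat_Spec {A C : Type u} [CommRing A] [CommRing C] [Algebra A C] [Module.Flat A C] :
    Flat (Spec.map (CommRingCat.ofHom (algebraMap A C))) := by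
  rw [HasRingHomProperty.Spec_iff (P := @Flat)]
  change (algebraMap A C).Flat
  rw [RingHom.flat_algebraMap_iff]
  infer_instance

theorem lfp_Spec {A C : Type u} [CommRing A] [CommRing C] [Algebra A C]
    [Algebra.FinitePresentation A C] :
    LocallyOfFinitePresentation (Spec.map (CommRingCat.ofHom (algebraMap A C))) := by
  rw [HasRingHomProperty.Spec_iff (P := @LocallyOfFinitePresentation)]
  change (algebraMap A C).FinitePresentation
  rw [RingHom.finitePresentation_algebraMap]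
  infer_instance

theorem isOpen_CMn (n : ℕ) {A C : Type u} [CommRing A] [CommRing C] [Algebra A C]
    [Module.Flat A C] [Algebra.FinitePresentation A C] :
    IsOpen {q : PrimeSpectrum C | CMn n A q} := by
  have := flat_Spec (A := A) (C := C)
  have := lfp_Spec (A := A) (C := C)
  exact (locusProp n).isOpen (Spec.map (CommRingCat.ofHom (algebraMap A C)))

theorem cmn_iff_of_isPushout (n : ℕ) (A₁ A₂ B₁ B₂ : Type u) [CommRing A₁] [CommRing A₂]
    [CommRing B₁] [CommRing B₂] [Algebra A₁ A₂] [Algebra A₁ B₁] [Algebra A₂ B₂] [Algebra B₁ B₂]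
    [Algebra A₁ B₂] [IsScalarTower A₁ A₂ B₂] [IsScalarTower A₁ B₁ B₂]
    [Algebra.IsPushout A₁ A₂ B₁ B₂] [Module.Flat A₁ B₁] [Algebra.FinitePresentation A₁ B₁]
    (q : PrimeSpectrum B₂) :
    CMn n A₂ q ↔ CMn n A₁ (PrimeSpectrum.comap (algebraMap B₁ B₂) q) := by
  have := flat_Spec (A := A₁) (C := B₁)
  have := lfp_Spec (A := A₁) (C := B₁)
  exact (locusProp n).baseChange (Spec.map (CommRingCat.ofHom (algebraMap A₁ B₁)))
    (Spec.map (CommRingCat.ofHom (algebraMap A₂ B₂)))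
    (Spec.map (CommRingCat.ofHom (algebraMap B₁ B₂)))
    (Spec.map (CommRingCat.ofHom (algebraMap A₁ A₂)))
    (isPullback_SpecMap_of_isPushout _ _ _ _
      (CommRingCat.isPushout_of_isPushout A₁ A₂ B₁ B₂)).flip q

theorem cmn_iff (n : ℕ) {N : ℕ} (A₁ A₂ : Type u) [CommRing A₁] [CommRing A₂] [Algebra A₁ A₂]
    [IsNoetherianRing A₁] (I : Ideal (MvPolynomial (Fin N) A₁))
    [Module.Flat A₁ (MvPolynomial (Fin N) A₁ ⧸ I)]
    (q : PrimeSpectrum (MvPolynomial (Fin N) A₂ ⧸ ext N A₁ A₂ I)) :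
    CMn n A₂ q ↔ CMn n A₁ (PrimeSpectrum.comap (algebraMap (MvPolynomial (Fin N) A₁ ⧸ I)
      (MvPolynomial (Fin N) A₂ ⧸ ext N A₁ A₂ I)) q) := by
  have h0 := scalarTower N A₁ A₂ I
  have h1 := isPushout_quot N A₁ A₂ I
  have h2 : Algebra.FinitePresentation A₁ (MvPolynomial (Fin N) A₁ ⧸ I) :=
    Algebra.FinitePresentation.of_finiteType.1 inferInstance
  exact cmn_iff_of_isPushout n A₁ A₂ (MvPolynomial (Fin N) A₁ ⧸ I)
    (MvPolynomial (Fin N) A₂ ⧸ ext N A₁ A₂ I) q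

variable {N : ℕ} (A₁ A₂ : Type u) [CommRing A₁] [CommRing A₂] [Algebra A₁ A₂]

/-- The trace on `B₁` of a prime of `B₂` contains `J` iff the prime contains the image of the
preimage of `J`. -/
theorem le_comap_iff (I : Ideal (MvPolynomial (Fin N) A₁))
    (J : Ideal (MvPolynomial (Fin N) A₁ ⧸ I))
    (q : PrimeSpectrum (MvPolynomial (Fin N) A₂ ⧸ ext N A₁ A₂ I)) :
    J ≤ (PrimeSpectrum.comap (algebraMap (MvPolynomial (Fin N) A₁ ⧸ I)
      (MvPolynomial (Fin N) A₂ ⧸ ext N A₁ A₂ I)) q).asIdeal ↔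
    (J.comap (Ideal.Quotient.mk I)).map
      (algebraMap (MvPolynomial (Fin N) A₁) (MvPolynomial (Fin N) A₂)) ≤
      q.asIdeal.comap (Ideal.Quotient.mk (ext N A₁ A₂ I)) := by
  rw [Ideal.map_le_iff_le_comap]
  constructor
  · intro h x hx
    exact h hx
  · intro h x hx
    obtain ⟨y, rfl⟩ := Ideal.Quotient.mk_surjective x
    exact h hx

theorem exists_cm_stage (n : ℕ) {A : Type u} [CommRing A] [Algebra A₁ A]
    [IsNoetherianRing A₁] (I : Ideal (MvPolynomial (Fin N) A₁))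
    [Module.Flat A₁ (MvPolynomial (Fin N) A₁ ⧸ I)]
    (h : ∀ q : PrimeSpectrum (MvPolynomial (Fin N) A ⧸ ext N A₁ A I), CMn n A q) :
    ∃ (A₂ : Type u) (_ : CommRing A₂) (_ : Algebra A₁ A₂) (_ : Algebra A₂ A)
      (_ : IsScalarTower A₁ A₂ A), IsNoetherianRing A₂ ∧
      ∀ q : PrimeSpectrum (MvPolynomial (Fin N) A₂ ⧸ ext N A₁ A₂ I), CMn n A₂ q := by
  classical
  have hfp : Algebra.FinitePresentation A₁ (MvPolynomial (Fin N) A₁ ⧸ I) :=
    Algebra.FinitePresentation.of_finiteType.1 inferInstance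
  have hopen := isOpen_CMn n (A := A₁) (C := MvPolynomial (Fin N) A₁ ⧸ I)
  obtain ⟨J, hJ⟩ := (PrimeSpectrum.isClosed_iff_zeroLocus_ideal _).1 hopen.isClosed_compl
  have hJ' : ∀ q : PrimeSpectrum (MvPolynomial (Fin N) A₁ ⧸ I), CMn n A₁ q ↔ ¬ J ≤ q.asIdeal := by
    intro q
    have h1 : q ∈ {q | CMn n A₁ q}ᶜ ↔ q ∈ PrimeSpectrum.zeroLocus (J : Set _) := by rw [hJ]
    have h2 : ¬ CMn n A₁ q ↔ J ≤ q.asIdeal := h1
    rw [← h2, not_not]
  let Jt : Ideal (MvPolynomial (Fin N) A₁) := J.comap (Ideal.Quotient.mk I)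
  have hI : I ≤ Jt := fun x hx => by
    change Ideal.Quotient.mk I x ∈ J
    rw [Ideal.Quotient.eq_zero_iff_mem.2 hx]
    exact J.zero_mem
  let φ : MvPolynomial (Fin N) A₁ →+* MvPolynomial (Fin N) A := algebraMap _ _
  have htop : Jt.map φ = ⊤ := by
    by_contra hne
    obtain ⟨m, hm, hle⟩ := Ideal.exists_le_maximal _ hne
    have hIm : ext N A₁ A I ≤ m := (Ideal.map_mono hI).trans hle
    obtain ⟨q, hq⟩ : (⟨m, hm.isPrime⟩ : PrimeSpectrum (MvPolynomial (Fin N) A)) ∈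
        Set.range (PrimeSpectrum.comap (Ideal.Quotient.mk (ext N A₁ A I))) := by
      rw [range_comap_of_surjective _ _ Ideal.Quotient.mk_surjective, Ideal.mk_ker]
      exact hIm
    have h1 := (cmn_iff n A₁ A I q).1 (h q)
    rw [hJ', le_comap_iff A₁ A I J q] at h1
    apply h1
    have h2 : q.asIdeal.comap (Ideal.Quotient.mk (ext N A₁ A I)) = m :=
      congrArg PrimeSpectrum.asIdeal hq
    rw [h2]
    exact hle
  obtain ⟨T₁, hT₁⟩ : Jt.FG := (isNoetherianRing_iff_ideal_fg _).1 inferInstance Jt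
  have h1 : (1 : MvPolynomial (Fin N) A) ∈ Ideal.span (φ '' (T₁ : Set _)) := by
    rw [← Ideal.map_span, hT₁, htop]
    trivial
  obtain ⟨c, hc⟩ := (Submodule.mem_span_image_finset_iff_exists_fun'
    (R := MvPolynomial (Fin N) A)).1 h1
  obtain ⟨A₂, _, _, _, _, hft, hinj, hT⟩ := exists_coeff_model (T₁.image c) A₁
  have hN₂ : IsNoetherianRing A₂ := Algebra.FiniteType.isNoetherianRing A₁ A₂
  refine ⟨A₂, inferInstance, inferInstance, inferInstance, inferInstance, hN₂, fun q => ?_⟩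
  rw [cmn_iff n A₁ A₂ I q, hJ', le_comap_iff A₁ A₂ I J q]
  intro hle
  apply (inferInstance : (q.asIdeal.comap (Ideal.Quotient.mk (ext N A₁ A₂ I))).IsPrime).ne_top
  rw [Ideal.eq_top_iff_one]
  apply hle
  have h2 : ∀ j : MvPolynomial (Fin N) A₁, ∃ d : MvPolynomial (Fin N) A₂, j ∈ T₁ →
      algebraMap (MvPolynomial (Fin N) A₂) (MvPolynomial (Fin N) A) d = c j := by
    intro j
    by_cases hj : j ∈ T₁
    · obtain ⟨d, hd⟩ := hT (c j) (Finset.mem_image_of_mem c hj)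
      exact ⟨d, fun _ => hd⟩
    · exact ⟨0, fun h => absurd h hj⟩
  choose d hd using h2
  have h3 : (1 : MvPolynomial (Fin N) A₂) = ∑ j ∈ T₁, d j *
      algebraMap (MvPolynomial (Fin N) A₁) (MvPolynomial (Fin N) A₂) j := by
    have hinj' : Function.Injective
        (algebraMap (MvPolynomial (Fin N) A₂) (MvPolynomial (Fin N) A)) :=
      MvPolynomial.map_injective _ hinj
    apply hinj'
    rw [map_one, map_sum, ← hc]
    refine Finset.sum_congr rfl fun j hj => ?_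
    rw [map_mul, hd j hj, smul_eq_mul]
    congr 1
    exact (RingHom.congr_fun (algebraMap_tower N A₁ A₂ A) j).symm
  rw [h3]
  refine Ideal.sum_mem _ fun j hj => Ideal.mul_mem_left _ _ (Ideal.mem_map_of_mem _ ?_)
  change j ∈ Jt
  rw [← hT₁]
  exact Ideal.subset_span hj

end CM

end K173.PolyModel
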