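import Groth.Agent.Dual.K173.ExtBC
import Groth.Agent.Dual.K173.PolyModel
import Groth.Agent.Models.TorPoly
import Mathlib.Algebra.Category.ModuleCat.Ext.Finite

/-!
# `Ext^j_{A[t]}(A[t]/I, A[t])` from a Noetherian model
-/

set_option autoImplicit false
universe u

open CategoryTheory
open scoped TensorProduct

attribute [local instance] MvPolynomial.algebraMvPolynomial

namespace K173.ExtModel

open K173.PolyModel K173.ExtBC Groth.Agent

section

variable {A A' P P' : Type u} [CommRing A] [CommRing A'] [CommRing P] [CommRing P']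
  [Algebra A A'] [Algebra A P] [Algebra A' P'] [Algebra P P'] [Algebra A P']
  [IsScalarTower A P P'] [IsScalarTower A A' P'] [Algebra.IsPushout A A' P P']

/-- Base change of flatness over the base. -/
theorem flat_baseChange (E : Type u) [AddCommGroup E] [Module P E]
    (h : Module.Flat A (RestrictScalars A P E)) :
    Module.Flat A' (RestrictScalars A' P' (P' ⊗[P] E)) := by
  let i : Module A E := Module.compHom E (algebraMap A P)
  have : IsScalarTower A P E := IsScalarTower.of_algebraMap_smul fun _ _ => rfl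
  have h1 : Module.Flat A E := flat_restrictScalars_iff.1 h
  rw [flat_restrictScalars_iff]
  exact Module.Flat.of_linearEquiv (Algebra.IsPushout.cancelBaseChange A A' P P' E)

variable (A A')

include A' in
/-- Base change of `Ext^j(M, P)`, `j = 0` included. -/
theorem nonempty_ext [Module.Flat A P] [IsNoetherianRing P] (n : ℕ) (M : Type u) [AddCommGroup M]
    [Module P M] [Module A M]
    [IsScalarTower A P M] [Module.Finite P M] [Module.Flat A M]
    (h : HasProjectiveDimensionLT (ModuleCat.of P M) (n + 1))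
    (hE : ∀ j : ℕ, Module.Flat A (RestrictScalars A P
      (Abelian.Ext.{u} (ModuleCat.of P M) (ModuleCat.of P P) (j + 1))))
    (M' : Type u) [AddCommGroup M'] [Module P' M'] (e : P' ⊗[P] M ≃ₗ[P'] M') (j : ℕ) :
    Nonempty (P' ⊗[P] Abelian.Ext.{u} (ModuleCat.of P M) (ModuleCat.of P P) j ≃ₗ[P']
      Abelian.Ext.{u} (ModuleCat.of P' M') (ModuleCat.of P' P') j) := by
  obtain ⟨-, h2, h3⟩ := main A A' P P' n M h hE
  let e' := Groth.Agent.Sga2.RegExt.extEquivLeft (ModuleCat.of P' P') e.symm.toModuleIso j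
  rcases j with _ | j
  · let a : Abelian.Ext.{u} (ModuleCat.of P M) (ModuleCat.of P P) 0 ≃ₗ[P] (M →ₗ[P] P) :=
      Abelian.Ext.linearEquiv₀.trans ModuleCat.homLinearEquiv
    let b : Abelian.Ext.{u} (ModuleCat.of P' (P' ⊗[P] M)) (ModuleCat.of P' P') 0 ≃ₗ[P']
        (P' ⊗[P] M →ₗ[P'] P') :=
      Abelian.Ext.linearEquiv₀.trans ModuleCat.homLinearEquiv
    exact ⟨((a.baseChange P P').trans (LinearEquiv.ofBijective (theta P' M) h2)).trans
      (b.symm.trans e')⟩
  · obtain ⟨e₁⟩ := h3 j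
    exact ⟨e₁.trans e'⟩

end

section Poly

variable {N : ℕ} (A₀ A : Type u) [CommRing A₀] [CommRing A] [Algebra A₀ A] [IsNoetherianRing A₀]
  (I : Ideal (MvPolynomial (Fin N) A₀)) [Module.Flat A₀ (MvPolynomial (Fin N) A₀ ⧸ I)]

theorem exists_pd : ∃ n : ℕ, HasProjectiveDimensionLT
    (ModuleCat.of (MvPolynomial (Fin N) A₀) (MvPolynomial (Fin N) A₀ ⧸ I)) (n + 1) := by
  have h0 : DRing.HasFiniteTorDim A₀ (MvPolynomial (Fin N) A₀ ⧸ I) :=
    ⟨0, (Flat2H.TorDim.hasTorDimLE_zero_iff).2 inferInstance⟩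
  obtain ⟨m, hm⟩ := Models.TorPoly.exists_hasProjectiveDimensionLT_ker
    (Ideal.Quotient.mkₐ A₀ I) Ideal.Quotient.mk_surjective h0
  have hS := K682.ExtOne.shortExact (R := MvPolynomial (Fin N) A₀)
    (K := RingHom.ker (Ideal.Quotient.mkₐ A₀ I).toRingHom) (F := MvPolynomial (Fin N) A₀)
    (M := MvPolynomial (Fin N) A₀ ⧸ I)
    (Submodule.subtype _) (Submodule.mkQ I) (by
      intro x
      rw [← LinearMap.mem_ker, Submodule.ker_mkQ]
      constructor
      · intro hx
        exact ⟨⟨x, by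
          change Ideal.Quotient.mk I x = 0
          rwa [Ideal.Quotient.eq_zero_iff_mem]⟩, rfl⟩
      · rintro ⟨⟨y, hy⟩, rfl⟩
        change Ideal.Quotient.mk I y = 0 at hy
        rwa [Ideal.Quotient.eq_zero_iff_mem] at hy) (Submodule.injective_subtype _)
    (Submodule.mkQ_surjective I)
  refine ⟨m, hS.hasProjectiveDimensionLT_X₃ m hm ?_⟩
  have : Projective (ModuleCat.of (MvPolynomial (Fin N) A₀) (MvPolynomial (Fin N) A₀)) :=
    ModuleCat.projective_of_categoryTheory_projective _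
  exact hasProjectiveDimensionLT_of_ge (ModuleCat.of (MvPolynomial (Fin N) A₀)
    (MvPolynomial (Fin N) A₀)) 1 _ (by omega)

theorem nonempty_ext_poly (hE : ∀ j : ℕ, Module.Flat A₀ (RestrictScalars A₀ (MvPolynomial (Fin N) A₀)
      (Abelian.Ext.{u} (ModuleCat.of (MvPolynomial (Fin N) A₀) (MvPolynomial (Fin N) A₀ ⧸ I))
        (ModuleCat.of (MvPolynomial (Fin N) A₀) (MvPolynomial (Fin N) A₀)) (j + 1)))) (j : ℕ) :
    Nonempty (MvPolynomial (Fin N) A ⊗[MvPolynomial (Fin N) A₀]
      Abelian.Ext.{u} (ModuleCat.of (MvPolynomial (Fin N) A₀) (MvPolynomial (Fin N) A₀ ⧸ I))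
        (ModuleCat.of (MvPolynomial (Fin N) A₀) (MvPolynomial (Fin N) A₀)) j
      ≃ₗ[MvPolynomial (Fin N) A]
      Abelian.Ext.{u} (ModuleCat.of (MvPolynomial (Fin N) A)
        (MvPolynomial (Fin N) A ⧸ ext N A₀ A I))
        (ModuleCat.of (MvPolynomial (Fin N) A) (MvPolynomial (Fin N) A)) j) := by
  obtain ⟨n, hn⟩ := exists_pd A₀ I
  exact nonempty_ext A₀ A n (MvPolynomial (Fin N) A₀ ⧸ I) hn hE
    (MvPolynomial (Fin N) A ⧸ ext N A₀ A I)
    (Algebra.TensorProduct.quotIdealMapEquivTensorQuot (MvPolynomial (Fin N) A) I).symm.toLinearEquiv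
    j

end Poly

end K173.ExtModel
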