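import Groth.Agent.DeRham.K852.Maps
import Groth.Agent.Sga67.ExtAlg
import Mathlib.LinearAlgebra.ExteriorPower.Basis
import Mathlib.RingTheory.Spectrum.Prime.FreeLocus
import Mathlib.RingTheory.Flat.LocallyFree
import Mathlib.LinearAlgebra.Contraction

/-!
# Exterior powers of finite projective modules

* `baseChangeEquiv`: exterior powers commute with base change;
* `projective_ext`;
* `rankAtStalk_ext`: rank of the exterior power;
* `nonempty_det`: determinant of split exact sequences.
* `exists_smul_of_rank_one`: endomorphisms of rank one projective modules are scalars.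
-/

set_option autoImplicit false

open scoped TensorProduct
open Groth.Agent.Krr.H495.ExtSemi Groth.Agent.Dual.H366.ExtLoc

namespace K173.ExtPow

section BaseChange

variable {A B : Type*} [CommRing A] [CommRing B] [Algebra A B]
  {M N : Type*} [AddCommGroup M] [Module A M] [AddCommGroup N] [Module A N] [Module B N]
  [IsScalarTower A B N] {f : M →ₗ[A] N}

/-- The comparison map. -/
noncomputable def bcHom (f : M →ₗ[A] N) (i : ℕ) : B ⊗[A] ↥(⋀[A]^i M) →+ ↥(⋀[B]^i N) :=
  TensorProduct.liftAddHom
    { toFun := fun b =>
        { toFun := fun x => b • extS i (semi (B := B) f) x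
          map_zero' := by rw [map_zero, smul_zero]
          map_add' := fun x y => by rw [map_add, smul_add] }
      map_zero' := by ext x; simp
      map_add' := fun a b => by ext x; simp [add_smul] }
    (fun a b x => by
      change (a • b) • extS i (semi (B := B) f) x = b • extS i (semi (B := B) f) (a • x)
      rw [LinearMap.map_smulₛₗ, smul_smul, Algebra.smul_def, mul_comm])

lemma bcHom_tmul (i : ℕ) (b : B) (x : ↥(⋀[A]^i M)) :
    bcHom f i (b ⊗ₜ[A] x) = b • extS i (semi (B := B) f) x := rfl

/-- Exterior powers commute with base change. -/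
noncomputable def baseChangeEquiv (hf : IsBaseChange B f) (i : ℕ) :
    B ⊗[A] ↥(⋀[A]^i M) ≃ₗ[B] ↥(⋀[B]^i N) where
  __ := AddEquiv.ofBijective (bcHom f i)
    (K852.DR.bijective_lift_extS hf i (bcHom f i) fun b x => bcHom_tmul i b x)
  map_smul' c z := by
    change bcHom f i (c • z) = c • bcHom f i z
    induction z with
    | zero => simp
    | add x y hx hy => rw [smul_add, map_add, map_add, smul_add, hx, hy]
    | tmul b x => rw [TensorProduct.smul_tmul', bcHom_tmul, bcHom_tmul, smul_assoc]

end BaseChange

section Proj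

variable {A : Type*} [CommRing A] {M : Type*} [AddCommGroup M] [Module A M]

instance projective_ext [Module.Projective A M] (i : ℕ) : Module.Projective A ↥(⋀[A]^i M) := by
  obtain ⟨s, hs⟩ := Module.projective_def'.1 (inferInstance : Module.Projective A M)
  refine Module.Projective.of_split (exteriorPower.map i s)
    (exteriorPower.map i (Finsupp.linearCombination A (_root_.id : M → M))) ?_
  rw [← exteriorPower.map_comp, hs, exteriorPower.map_id]

open Module in
theorem rankAtStalk_ext [Module.Projective A M] [Module.Finite A M] (i : ℕ)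
    (p : PrimeSpectrum A) :
    rankAtStalk (⋀[A]^i M) p = (rankAtStalk M p).choose i := by
  rw [rankAtStalk_eq_finrank_tensorProduct, rankAtStalk_eq_finrank_tensorProduct,
    (baseChangeEquiv (TensorProduct.isBaseChange A M (Localization.AtPrime p.asIdeal)) i).finrank_eq]
  have : Module.Free (Localization.AtPrime p.asIdeal) (Localization.AtPrime p.asIdeal ⊗[A] M) :=
    Module.free_of_flat_of_isLocalRing
  exact exteriorPower.finrank_eq _ _

theorem subsingleton_ext_of_rank [Module.Projective A M] [Module.Finite A M] {q i : ℕ}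
    (h : ∀ p : PrimeSpectrum A, Module.rankAtStalk M p = q) (hi : q < i) : Subsingleton (⋀[A]^i M) := by
  rw [← Module.rankAtStalk_eq_zero_iff_subsingleton (R := A)]
  funext p
  rw [rankAtStalk_ext, h, Nat.choose_eq_zero_of_lt hi]
  rfl

end Proj

section Det

variable {R : Type*} [CommRing R] {M' M M'' : Type*} [AddCommGroup M'] [Module R M']
  [AddCommGroup M] [Module R M] [AddCommGroup M''] [Module R M'']

open Groth.Agent.Sga67.ExtAlg

lemma eq_iff_add_neg {Y : Type*} [AddCommMonoid Y] [Module R Y] (y z : Y) :
    y = z ↔ y + (-1 : R) • z = 0 := by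
  have h0 : ∀ w : Y, (-1 : R) • w + w = 0 := fun w => by
    conv_lhs => rw [← one_smul R w, smul_smul, ← add_smul]
    rw [mul_one, neg_add_cancel, zero_smul]
  constructor
  · rintro rfl
    rw [add_comm, h0]
  · intro h
    have h1 : y + ((-1 : R) • z + z) = z := by rw [← add_assoc, h, zero_add]
    rw [← h1, h0, add_zero]

/-- Two surjections with the same kernel. -/
lemma nonempty_equiv_of_ker {X Y Z : Type*} [AddCommMonoid X] [Module R X] [AddCommMonoid Y]
    [Module R Y] [AddCommMonoid Z] [Module R Z] (F : X →ₗ[R] Y) (G : X →ₗ[R] Z)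
    (hF : Function.Surjective F) (hG : Function.Surjective G) (h : ∀ t, F t = 0 ↔ G t = 0) :
    Nonempty (Y ≃ₗ[R] Z) := by
  have h1 : ∀ t t', F t = F t' ↔ G t = G t' := by
    intro t t'
    rw [eq_iff_add_neg (R := R) (F t), eq_iff_add_neg (R := R) (G t), ← map_smul, ← map_smul,
      ← map_add, ← map_add]
    exact h _
  choose s hs using hF
  choose s' hs' using hG
  exact ⟨{
    toFun := fun y => G (s y)
    invFun := fun z => F (s' z)
    map_add' := fun y y' => by
      rw [← map_add, ← h1, hs, map_add, hs, hs]
    map_smul' := fun r y => by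
      rw [RingHom.id_apply, ← map_smul, ← h1, hs, map_smul, hs]
    left_inv := fun y => by
      conv_rhs => rw [← hs y]
      rw [h1, hs']
    right_inv := fun z => by
      conv_rhs => rw [← hs' z]
      rw [← h1, hs] }⟩

/-- A section from a retraction. -/
lemma exists_section (f : M' →ₗ[R] M) (g : M →ₗ[R] M'') (r : M →ₗ[R] M')
    (hr : r ∘ₗ f = LinearMap.id) (hg : Function.Surjective g) (hex : Function.Exact f g) :
    ∃ s : M'' →ₗ[R] M, ∀ m, m - s (g m) = f (r m) := by
  have hr' : ∀ m, r (f m) = m := LinearMap.congr_fun hr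
  have hle : LinearMap.ker g ≤ LinearMap.ker (LinearMap.id - f ∘ₗ r) := by
    intro m hm
    obtain ⟨m', rfl⟩ := (hex m).1 hm
    rw [LinearMap.mem_ker, LinearMap.sub_apply, LinearMap.id_apply, LinearMap.comp_apply, hr',
      sub_self]
  let e := g.quotKerEquivOfSurjective hg
  refine ⟨((LinearMap.ker g).liftQ _ hle) ∘ₗ e.symm.toLinearMap, fun m => ?_⟩
  have h1 : e.symm (g m) = Submodule.Quotient.mk m := by
    rw [LinearEquiv.symm_apply_eq]
    rfl
  rw [LinearMap.comp_apply, LinearEquiv.coe_coe, h1, Submodule.liftQ_apply,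
    LinearMap.sub_apply, LinearMap.id_apply, LinearMap.comp_apply, sub_sub_cancel]

/-- The determinant of a split exact sequence. -/
theorem nonempty_det (f : M' →ₗ[R] M) (g : M →ₗ[R] M'') (r : M →ₗ[R] M')
    (hr : r ∘ₗ f = LinearMap.id) (hg : Function.Surjective g) (hex : Function.Exact f g)
    (p q : ℕ) (hp : Subsingleton (⋀[R]^(p + 1) M')) (hq : ∀ i, q < i → Subsingleton (⋀[R]^i M'')) :
    Nonempty ((⋀[R]^(p + q) M) ≃ₗ[R] (⋀[R]^p M') ⊗[R] (⋀[R]^q M'')) := by
  obtain ⟨s, hs⟩ := exists_section f g r hr hg hex
  have hgf : g ∘ₗ f = 0 := hex.linearMap_comp_eq_zero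
  have hsurj : ∀ (j k : ℕ) (h : j + k = p + q), j ≤ p → Function.Surjective (mu h f) := by
    intro j
    induction j with
    | zero => exact fun k h _ => mu_zero_surjective h f
    | succ j ih =>
      intro k h hj x
      obtain ⟨t, rfl⟩ := ih (k + 1) (by omega) (by omega) x
      have h1 : Subsingleton (⋀[R]^(k + 1) M'') := hq _ (by omega)
      exact exists_mu_eq_of_pi_eq_zero (by omega) h f g r s hs t (Subsingleton.elim _ _)
  have hker : ∀ t, mu (rfl : p + q = p + q) f t = 0 ↔ pi M' p q g t = 0 := by
    intro t
    constructor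
    · exact pi_eq_zero_of_mu_eq_zero rfl f g r hr hgf t
    · intro ht
      rcases q with _ | q
      · rw [pi_zero_injective g (ht.trans (map_zero _).symm), map_zero]
      · obtain ⟨t', ht'⟩ := exists_mu_eq_of_pi_eq_zero (rfl : p + (q + 1) = p + (q + 1))
          (by omega) f g r s hs t ht
        rw [← ht', Subsingleton.elim t' 0, map_zero]
  exact nonempty_equiv_of_ker _ _ (hsurj p q rfl le_rfl) (pi_surjective g hg) hker

/-- A split exact sequence is a product. -/
theorem nonempty_prod (f : M' →ₗ[R] M) (g : M →ₗ[R] M'') (r : M →ₗ[R] M')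
    (hr : r ∘ₗ f = LinearMap.id) (hg : Function.Surjective g) (hex : Function.Exact f g) :
    Nonempty (M ≃ₗ[R] M' × M'') := by
  have hr' : ∀ m, r (f m) = m := LinearMap.congr_fun hr
  refine ⟨LinearEquiv.ofBijective (r.prod g) ⟨?_, ?_⟩⟩
  · rw [injective_iff_map_eq_zero]
    intro m hm
    rw [LinearMap.prod_apply, Function.prod_apply, Prod.mk_eq_zero] at hm
    obtain ⟨m', rfl⟩ := (hex m).1 hm.2
    rw [hr'] at hm
    rw [hm.1, map_zero]
  · rintro ⟨m', m''⟩
    obtain ⟨m, rfl⟩ := hg m''
    refine ⟨f (m' - r m) + m, ?_⟩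
    have h2 : g (f (m' - r m)) = 0 := (hex _).2 ⟨_, rfl⟩
    rw [LinearMap.prod_apply, Function.prod_apply, map_add, map_add, h2, zero_add, hr', sub_add_cancel]

/-- The top exterior power of a free module. -/
theorem nonempty_top (p : ℕ) (b : Module.Basis (Fin p) R M') :
    Nonempty ((⋀[R]^p M') ≃ₗ[R] R) := by
  rcases subsingleton_or_nontrivial R with h | h
  · have := Module.subsingleton R (⋀[R]^p M')
    exact ⟨0⟩
  · have hfree : Module.Free R M' := Module.Free.of_basis b
    have hfin : Module.Finite R M' := Module.Finite.of_basis b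
    have h1 : Module.finrank R (⋀[R]^p M') = 1 := by
      rw [exteriorPower.finrank_eq, Module.finrank_eq_card_basis b, Fintype.card_fin,
        Nat.choose_self]
    exact ⟨LinearEquiv.ofFinrankEq _ _ (by rw [h1, Module.finrank_self])⟩

end Det

section RankOne

variable {B : Type*} [CommRing B] {L : Type*} [AddCommGroup L] [Module B L]

/-- The alternating map `(x, y) ↦ f(x) y - f(y) x`. -/
def altOf (f : L →ₗ[B] B) : L [⋀^Fin 2]→ₗ[B] L where
  toFun v := f (v 0) • v 1 - f (v 1) • v 0
  map_update_add' := by
    intro _ v i x y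
    fin_cases i
    · simp [Function.update, add_smul]; abel
    · simp [Function.update, add_smul]; abel
  map_update_smul' := by
    intro _ v i a x
    fin_cases i
    · simp [Function.update, smul_sub, smul_smul, mul_comm]
    · simp [Function.update, smul_sub, smul_smul, mul_comm]
  map_eq_zero_of_eq' := by
    intro v i j hv hij
    have : v 0 = v 1 := by
      fin_cases i <;> fin_cases j <;> simp_all
    rw [this, sub_self]

variable [Module.Projective B L] [Module.Finite B L]
  (h : ∀ p : PrimeSpectrum B, Module.rankAtStalk L p = 1)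

include h

lemma smul_comm_of_rank_one (f : L →ₗ[B] B) (x y : L) : f x • y = f y • x := by
  have h1 : Subsingleton (⋀[B]^2 L) := subsingleton_ext_of_rank h (by norm_num)
  have h2 : altOf f ![x, y] = 0 := by
    rw [← exteriorPower.alternatingMapLinearEquiv_apply_ιMulti, Subsingleton.elim
      (exteriorPower.ιMulti B 2 ![x, y]) 0, map_zero]
  exact sub_eq_zero.1 h2

lemma exists_contractLeft_eq_one : ∃ t, contractLeft B L t = 1 := by
  have htop : LinearMap.range (contractLeft B L) = ⊤ := by
    by_contra hne
    obtain ⟨m, hm, hle⟩ := Ideal.exists_le_maximal (LinearMap.range (contractLeft B L)) hne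
    have hmp : m.IsPrime := hm.isPrime
    have h1 := h ⟨m, hmp⟩
    rw [Module.rankAtStalk_eq] at h1
    have h2 : ∀ (f : L →ₗ[B] B) (x : L), f x ∈ m := fun f x =>
      hle ⟨f ⊗ₜ x, contractLeft_apply f x⟩
    obtain ⟨s, hs⟩ := Module.projective_def'.1 (inferInstance : Module.Projective B L)
    have h3 : Subsingleton (m.ResidueField ⊗[B] L) := by
      refine subsingleton_of_forall_eq 0 fun z => ?_
      induction z with
      | zero => rfl
      | add x y hx hy => rw [hx, hy, add_zero]
      | tmul c x =>
        have h4 : x = Finsupp.linearCombination B (_root_.id : L → L) (s x) :=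
          (LinearMap.congr_fun hs x).symm
        rw [h4, Finsupp.linearCombination_apply, Finsupp.sum, TensorProduct.tmul_sum]
        refine Finset.sum_eq_zero fun i _ => ?_
        rw [TensorProduct.tmul_smul, TensorProduct.smul_tmul', Algebra.smul_def]
        have h5 : s x i ∈ m := h2 (Finsupp.lapply i ∘ₗ s) x
        have h6 : algebraMap B m.ResidueField (s x i) = 0 :=
          Ideal.algebraMap_residueField_eq_zero.2 h5
        rw [h6, zero_mul, TensorProduct.zero_tmul]
    have h7 : Module.finrank m.ResidueField (m.ResidueField ⊗[B] L) = 0 :=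
      Module.finrank_zero_of_subsingleton
    exact absurd (h1.symm.trans h7) one_ne_zero
  have : (1 : B) ∈ LinearMap.range (contractLeft B L) := by rw [htop]; trivial
  exact this

/-- Endomorphisms of a rank one projective module are scalars. -/
theorem nonempty_end : Nonempty ((L →ₗ[B] L) ≃ₗ[B] B) := by
  obtain ⟨t, ht⟩ := exists_contractLeft_eq_one h
  have key : ∀ (φ : L →ₗ[B] L) (y : L) (t : Module.Dual B L ⊗[B] L),
      contractLeft B L t • φ y = contractLeft B L (LinearMap.lTensor _ φ t) • y := by
    intro φ y t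
    induction t with
    | zero => simp
    | add a b ha hb => rw [map_add, map_add, map_add, add_smul, add_smul, ha, hb]
    | tmul f x =>
      rw [LinearMap.lTensor_tmul, contractLeft_apply, contractLeft_apply,
        smul_comm_of_rank_one h f (φ x) y, ← map_smul, ← map_smul, smul_comm_of_rank_one h f x y]
  refine ⟨(LinearEquiv.ofBijective
    (LinearMap.toSpanSingleton B (L →ₗ[B] L) LinearMap.id) ⟨?_, ?_⟩).symm⟩
  · rw [injective_iff_map_eq_zero]
    intro b hb
    have h1 : b • (LinearMap.id : L →ₗ[B] L) = 0 := hb
    have h2 : contractLeft B L (LinearMap.lTensor _ (b • (LinearMap.id : L →ₗ[B] L)) t) = b := by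
      rw [LinearMap.lTensor_smul, LinearMap.lTensor_id, LinearMap.smul_apply, LinearMap.id_apply,
        map_smul, ht, smul_eq_mul, mul_one]
    rw [← h2, h1, LinearMap.lTensor_zero, LinearMap.zero_apply, map_zero]
  · intro φ
    refine ⟨contractLeft B L (LinearMap.lTensor _ φ t), LinearMap.ext fun y => ?_⟩
    have h1 := key φ y t
    rw [ht, one_smul] at h1
    rw [LinearMap.toSpanSingleton_apply, LinearMap.smul_apply, LinearMap.id_apply, h1]

end RankOne

end K173.ExtPow
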