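import Groth.Agent.Sga2.RegExt

/-!
# `Ext^p(N, M) = Hom(N, M/JM)` for `N` killed by `J`, `J` generated by an `M`-weakly regular
sequence of length `p`
-/

set_option autoImplicit false
universe u

open CategoryTheory Abelian Limits Pointwise

namespace K173.ExtTopReg

open Groth.Agent.Sga2.RegExt

variable {A : Type u} [CommRing A]

lemma smul_eq_zero (N M : ModuleCat.{u} A) (x : A) (hN : x ∈ Module.annihilator A N) (n : ℕ)
    (y : Ext N M n) : y.comp (Ext.mk₀ (x • 𝟙 M)) (add_zero _) = 0 := by
  rw [← Ext.smul_eq_comp_mk₀]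
  exact Groth.Agent.Localalg.Depth.ext_smul_eq_zero_of_mem_annihilator_left hN _ y

theorem subsingleton_ext (N : ModuleCat.{u} A) (rs : List A) :
    ∀ (M : ModuleCat.{u} A), (∀ x ∈ rs, x ∈ Module.annihilator A N) →
    RingTheory.Sequence.IsWeaklyRegular M rs → ∀ i : ℕ, i < rs.length →
    Subsingleton (Ext N M i) := by
  induction rs with
  | nil => exact fun _ _ _ i hi => absurd hi (Nat.not_lt_zero i)
  | cons x rs ih =>
    intro M hN hreg i hi
    have hreg' := (RingTheory.Sequence.isWeaklyRegular_cons_iff M x rs).1 hreg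
    have hS := hreg'.1.smulShortComplex_shortExact
    have hx := smul_eq_zero N M x (hN x List.mem_cons_self)
    refine subsingleton_of_forall_eq 0 fun y => ?_
    rcases i with _ | i
    · have := hS.mono_f
      exact Ext.postcomp_mk₀_injective_of_mono N (M.smulShortComplex x).f (a₁ := y) (a₂ := 0)
        (by
          rw [map_zero]
          exact hx 0 y)
    · have h1 := ih (ModuleCat.of A (QuotSMulTop x M))
        (fun y hy => hN y (List.mem_cons_of_mem _ hy)) hreg'.2 i (by simpa using hi)
      obtain ⟨z, hz⟩ := Ext.covariant_sequence_exact₁ N hS y (hx _ y) rfl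
      have h2 : z = 0 := Subsingleton.elim (α := Ext N (ModuleCat.of A (QuotSMulTop x M)) i) z 0
      rw [← hz, h2, Ext.zero_comp]
      rfl

theorem nonempty_ext_equiv (N : ModuleCat.{u} A) (rs : List A) :
    ∀ (M : ModuleCat.{u} A), (∀ x ∈ rs, x ∈ Module.annihilator A N) →
    RingTheory.Sequence.IsWeaklyRegular M rs →
    Nonempty (Ext N (ModuleCat.of A (M ⧸ (Ideal.ofList rs • (⊤ : Submodule A M)))) 0 ≃ₗ[A]
      Ext N M rs.length) := by
  induction rs with
  | nil =>
    intro M _ _
    have e : (M ⧸ (Ideal.ofList ([] : List A) • (⊤ : Submodule A M))) ≃ₗ[A] M :=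
      Submodule.quotEquivOfEqBot _ (by simp)
    exact ⟨extEquivRight N e.toModuleIso 0⟩
  | cons x rs ih =>
    intro M hN hreg
    have hreg' := (RingTheory.Sequence.isWeaklyRegular_cons_iff M x rs).1 hreg
    obtain ⟨e1⟩ := ih (ModuleCat.of A (QuotSMulTop x M))
      (fun y hy => hN y (List.mem_cons_of_mem _ hy)) hreg'.2
    obtain ⟨e2⟩ := ext_equiv_quotSMulTop N M x hreg'.1 (hN x List.mem_cons_self) rs.length
      (subsingleton_ext N (x :: rs) M hN hreg _ (by simp))
    exact ⟨(extEquivRight N (Submodule.quotOfListConsSMulTopEquivQuotSMulTopInner M x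
      rs).toModuleIso 0).trans (e1.trans e2)⟩

end K173.ExtTopReg
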