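import Groth.Agent.Flat2F.GorFibB
import Groth.Agent.LoccohA.GorBC
import Mathlib.FieldTheory.IntermediateField.Adjoin.Algebra

/-!
# Base change of dualizing complexes along flat maps with Gorenstein fibres and bounded dimension

`isDualizing_flatBC_of_gorenstein_of_dim`: `A → B` flat with Gorenstein fibres, `B` Noetherian of finite dimension.
`isDualizing_flatBC_field`: the base change `A → K ⊗_k A` for `A` of finite type over the field `k`.
-/

set_option autoImplicit false
universe u

open CategoryTheory CategoryTheory.Limits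
open scoped TensorProduct

attribute [local instance] HasDerivedCategory.standard

namespace K173.FieldExt

open DerivedCategory Groth.Agent.LoccohB Groth.Agent.LoccohB.HomBC Groth.Agent.LoccohB.FlatLBC
  Groth.Agent.Flat2F.GorFibB

/-- Flat base change with Gorenstein fibres, target of finite dimension. -/
theorem isDualizing_flatBC_of_gorenstein_of_dim {A B : Type u} [CommRing A] [CommRing B]
    [Algebra A B] (h : (algebraMap A B).Flat) [IsNoetherianRing B] (N : ℕ)
    (hN : ringKrullDim B ≤ N)
    (hG : ∀ p : PrimeSpectrum A, LocCoh.IsGorensteinRing (p.asIdeal.Fiber B))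
    (K : Dual.D A) (hK : Dual.IsDualizing A K) :
    Dual.IsDualizing B ((flatBC (algebraMap A B) h).obj K) := by
  have := hK.isNoetherianRing
  obtain ⟨a, b, hge, hle, hab⟩ := exists_bounds_of_isDualizing hK
  refine Groth.Agent.Flat2F.DualBC.isDualizing_flatBC B h hK ⟨b + N, fun n _ i hi => ?_⟩
  set p := n.comap (algebraMap A B) with hp
  obtain ⟨q', hq', -, ⟨e⟩⟩ := Groth.Agent.Ega4B.FibLoc.exists_fibLocRing_equiv A B n
  have hGf : LocCoh.IsGorensteinRing (p.Fiber B) := hG ⟨p, inferInstance⟩
  have hGl : LocCoh.IsGorensteinLocalRing (EGA4.FibLocRing A B n) :=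
    Groth.Agent.LoccohB.GorBasic.isGorensteinLocalRing_of_ringEquiv e
      (hGf.isGorensteinLocalRing_localization q')
  refine subsingleton_hom_residue h K a b hK.finite_cohomology
    (fun p i hi => hab _ i (Or.inr hi)) n hGl N ?_ i hi
  refine (ringKrullDim_quotient_le _).trans ?_
  rw [IsLocalization.AtPrime.ringKrullDim_eq_height n (Localization.AtPrime n)]
  exact (Ideal.height_le_ringKrullDim_of_ne_top (Ideal.IsPrime.ne_top inferInstance)).trans hN

/-- An essentially finite type field extension is generated by a finite set. -/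
lemma exists_adjoin_eq_top {k K : Type u} [Field k] [Field K] [Algebra k K]
    [Algebra.EssFiniteType k K] :
    ∃ s : Finset K, IntermediateField.adjoin k (s : Set K) = ⊤ := by
  have h1 : Algebra.EssFiniteType k (⊤ : IntermediateField k K) :=
    Algebra.EssFiniteType.of_surjective
      (IntermediateField.topEquiv : (⊤ : IntermediateField k K) ≃ₐ[k] K).symm.toAlgHom
      (IntermediateField.topEquiv : (⊤ : IntermediateField k K) ≃ₐ[k] K).symm.surjective
  exact IntermediateField.essFiniteType_iff.1 h1

/-- `K ⊗_k L` is a Gorenstein ring when `L / k` is a finitely generated field extension. -/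
lemma gor_tensor_right {k K L : Type u} [Field k] [Field K] [Field L] [Algebra k K] [Algebra k L]
    [Algebra.EssFiniteType k L] : LocCoh.IsGorensteinRing (K ⊗[k] L) := by
  obtain ⟨s, hs⟩ := exists_adjoin_eq_top (k := k) (K := L)
  exact Groth.Agent.LoccohA.GorBC.isGorensteinRing_tensor_of_fg s hs K
    (Groth.Agent.LoccohA.GorBC.isGorensteinRing_of_isPrincipalIdealRing K)

section Field

variable (k K : Type u) [Field k] [Field K] [Algebra k K] (A : Type u) [CommRing A] [Algebra k A]

/-- `K ⊗_k A` as an `A`-algebra. -/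
noncomputable abbrev rAlg : Algebra A (K ⊗[k] A) :=
  (Algebra.TensorProduct.includeRight : A →ₐ[k] K ⊗[k] A).toRingHom.toAlgebra

attribute [local instance] rAlg

/-- `K ⊗_k A ≅ A ⊗_k K` as `A`-algebras. -/
noncomputable def commA : (K ⊗[k] A) ≃ₐ[A] (A ⊗[k] K) :=
  AlgEquiv.ofRingEquiv (f := (Algebra.TensorProduct.comm k K A).toRingEquiv) (fun a => by
    change Algebra.TensorProduct.comm k K A ((1 : K) ⊗ₜ[k] a) = a ⊗ₜ[k] (1 : K)
    simp)

lemma flat : (algebraMap A (K ⊗[k] A)).Flat := by
  rw [RingHom.flat_algebraMap_iff]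
  exact Module.Flat.of_linearEquiv (commA k K A).toLinearEquiv

lemma gor_fiber [Algebra.FiniteType k A] (p : Ideal A) [p.IsPrime] :
    LocCoh.IsGorensteinRing (p.Fiber (K ⊗[k] A)) := by
  have h1 : Algebra.EssFiniteType k p.ResidueField :=
    Algebra.EssFiniteType.comp k A p.ResidueField
  have h2 : LocCoh.IsGorensteinRing (K ⊗[k] p.ResidueField) := gor_tensor_right
  let e1 : p.ResidueField ⊗[A] (K ⊗[k] A) ≃+* p.ResidueField ⊗[A] (A ⊗[k] K) :=
    (Algebra.TensorProduct.congr (AlgEquiv.refl : p.ResidueField ≃ₐ[A] _) (commA k K A)).toRingEquiv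
  let e2 : p.ResidueField ⊗[A] (A ⊗[k] K) ≃+* p.ResidueField ⊗[k] K :=
    (Algebra.TensorProduct.cancelBaseChange k A A p.ResidueField K).toRingEquiv
  let e3 : p.ResidueField ⊗[k] K ≃+* K ⊗[k] p.ResidueField :=
    (Algebra.TensorProduct.comm k p.ResidueField K).toRingEquiv
  exact Groth.Agent.LoccohA.GorBC.isGorensteinRing_of_ringEquiv
    ((e1.trans e2).trans e3).symm h2

/-- **Base change of dualizing complexes along field extensions.** -/
theorem isDualizing_flatBC_field [Algebra.FiniteType k A] (ω : Dual.D A)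
    (hω : Dual.IsDualizing A ω) :
    Dual.IsDualizing (K ⊗[k] A) ((flatBC (algebraMap A (K ⊗[k] A)) (flat k K A)).obj ω) := by
  obtain ⟨N, f, hf⟩ := Algebra.FiniteType.iff_quotient_mvPolynomial''.1
    (inferInstance : Algebra.FiniteType K (K ⊗[k] A))
  have hNoeth : IsNoetherianRing (K ⊗[k] A) := Algebra.FiniteType.isNoetherianRing K (K ⊗[k] A)
  refine isDualizing_flatBC_of_gorenstein_of_dim (flat k K A) N ?_ (fun p => gor_fiber k K A _) ω hω
  refine (ringKrullDim_le_of_surjective f.toRingHom hf).trans ?_
  rw [MvPolynomial.ringKrullDim_of_isNoetherianRing]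
  simp

end Field

end K173.FieldExt
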