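import Groth.Agent.Sga3B.InvRank136
import Groth.Agent.Models2.DiscDual
import Groth.Agent.LoccohA.DzTrunc
import Groth.Agent.LoccohB.FlatLBC

/-!
# A complex with one cohomology module is locally a shift of the ring iff the module is invertible
-/

set_option autoImplicit false
universe u

open CategoryTheory CategoryTheory.Limits DerivedCategory
open scoped TensorProduct

attribute [local instance] HasDerivedCategory.standard

namespace K173.InvOne

section Alg

variable {A : Type u} [CommRing A] (W : Type u) [AddCommGroup W] [Module A W]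

/-- Locally isomorphic to the ring implies invertible. -/
theorem invertible_of_loc [IsNoetherianRing A] [Module.Finite A W]
    (h : ∀ q : PrimeSpectrum A, ∃ f : A, f ∉ q.asIdeal ∧
      Nonempty ((Localization.Away f ⊗[A] W) ≃ₗ[Localization.Away f] Localization.Away f)) :
    Module.Invertible A W := by
  have hfp : Module.FinitePresentation A W := Module.finitePresentation_of_finite A W
  have hproj : Module.Projective A W := by
    rw [← Module.freeLocus_eq_univ_iff, Set.eq_univ_iff_forall]
    intro q
    obtain ⟨f, hf, ⟨e⟩⟩ := h q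
    have h1 : Module.Projective (Localization.Away f) (LocalizedModule.Away f W) :=
      Module.Projective.of_equiv (e.symm.trans
        (IsLocalizedModule.isBaseChange (Submonoid.powers f) (Localization.Away f)
          (LocalizedModule.mkLinearMap (Submonoid.powers f) W)).equiv)
    exact (Module.basicOpen_subset_freeLocus_iff.2 h1) hf
  refine Groth.Agent.Sga3B.InvRank136.invertible_of_rank_one fun q => ?_
  obtain ⟨f, hf, ⟨e⟩⟩ := h q
  have hq : q ∈ Set.range (PrimeSpectrum.comap (algebraMap A (Localization.Away f))) := by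
    rw [PrimeSpectrum.localization_away_comap_range (Localization.Away f) f]
    exact hf
  obtain ⟨q', rfl⟩ := hq
  have hnt : Nontrivial (Localization.Away f) := q'.nontrivial
  rw [← Module.rankAtStalk_baseChange, Module.rankAtStalk_eq_of_equiv e, Module.rankAtStalk_self]
  rfl

/-- Invertible modules are locally isomorphic to the ring. -/
theorem loc_of_invertible [Module.Invertible A W] (q : PrimeSpectrum A) :
    ∃ f : A, f ∉ q.asIdeal ∧
      Nonempty ((Localization.Away f ⊗[A] W) ≃ₗ[Localization.Away f] Localization.Away f) := by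
  obtain ⟨s, hs⟩ := Groth.Agent.Models2.DiscDual.exists_sum_eq_one (B := A) W
  obtain ⟨⟨φ, x⟩, -, hφ⟩ : ∃ p ∈ s, p.1 p.2 ∉ q.asIdeal := by
    by_contra hcon
    push Not at hcon
    exact q.2.ne_top ((Ideal.eq_top_iff_one _).2 (hs ▸ q.asIdeal.sum_mem hcon))
  refine ⟨φ x, hφ, ?_⟩
  let Φ : (Localization.Away (φ x) ⊗[A] W) →ₗ[Localization.Away (φ x)] Localization.Away (φ x) :=
    (TensorProduct.AlgebraTensorModule.rid A (Localization.Away (φ x)) (Localization.Away (φ x))).toLinearMap ∘ₗ
      φ.baseChange (Localization.Away (φ x))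
  have hΦ : Function.Surjective Φ := by
    intro y
    obtain ⟨u, hu⟩ := IsLocalization.Away.algebraMap_isUnit (S := Localization.Away (φ x)) (φ x)
    refine ⟨(y * (u⁻¹ : _ˣ)) ⊗ₜ x, ?_⟩
    change φ x • (y * (u⁻¹ : _ˣ)) = y
    rw [Algebra.smul_def, ← hu, mul_comm, mul_assoc, Units.inv_mul, mul_one]
  exact ⟨LinearEquiv.ofBijective Φ (Module.Invertible.bijective_of_surjective hΦ)⟩

end Alg

section Derived

open Groth.Agent.LoccohB.FlatLBC

variable {A : Type u} [CommRing A] (K : Dual.D A)

/-- Cohomology of a flat base change. -/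
theorem nonempty_hd (B : Type u) [CommRing B] [Algebra A B] [Module.Flat A B]
    [DRing.HasLBaseChange (algebraMap A B)] (i : ℤ) :
    Nonempty (Dual.HD B ((DRing.LBaseChange (algebraMap A B)).obj K) i ≃ₗ[B]
      B ⊗[A] Dual.HD A K i) := by
  have hφ : (algebraMap A B).Flat := RingHom.flat_algebraMap_iff.2 inferInstance
  exact ⟨(((homologyFunctor (ModuleCat.{u} B) i).mapIso
    ((LBaseChangeIso (algebraMap A B) hφ).app K)) ≪≫
      (flatBCHomology (algebraMap A B) hφ i).app K).toLinearEquiv.trans
        (extEquiv A B ((homologyFunctor (ModuleCat.{u} A) i).obj K)).symm⟩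

/-- Cohomology of `A[m]`. -/
noncomputable def hdSelf (m i : ℤ) (h : m + i = 0) :
    Dual.HD A ((Dual.inD A A)⟦m⟧) i ≃ₗ[A] A :=
  ((((homologyFunctor (ModuleCat.{u} A) 0).shiftIso m i 0 h).app (Dual.inD A A)) ≪≫
    (singleFunctorCompHomologyFunctorIso (ModuleCat.{u} A) 0).app (ModuleCat.of A A)).toLinearEquiv

theorem subsingleton_hdSelf (m i : ℤ) (h : m + i ≠ 0) :
    Subsingleton (Dual.HD A ((Dual.inD A A)⟦m⟧) i) := by
  have h1 : IsZero ((homologyFunctor (ModuleCat.{u} A) (m + i)).obj (Dual.inD A A)) := by
    rcases lt_or_gt_of_ne h with h | h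
    · exact isZero_of_isGE _ 0 _ h
    · exact isZero_of_isLE _ 0 _ h
  exact ModuleCat.isZero_iff_subsingleton.1
    (h1.of_iso (((homologyFunctor (ModuleCat.{u} A) 0).shiftIso m i (m + i) rfl).app _))

theorem iff_invertible [IsNoetherianRing A] (m₀ : ℤ)
    (hK : ∀ i : ℤ, i ≠ m₀ → Subsingleton (Dual.HD A K i)) [Module.Finite A (Dual.HD A K m₀)]
    [∀ f : A, DRing.HasLBaseChange (algebraMap A (Localization.Away f))] :
    (∀ q : PrimeSpectrum A, ∃ (f : A) (_ : f ∉ q.asIdeal) (m : ℤ),
      Nonempty ((DRing.LBaseChange (algebraMap A (Localization.Away f))).obj K ≅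
        (Dual.inD (Localization.Away f) (Localization.Away f))⟦m⟧)) ↔
      Module.Invertible A (Dual.HD A K m₀) := by
  constructor
  · intro h
    refine invertible_of_loc _ fun q => ?_
    obtain ⟨f, hf, m, ⟨e⟩⟩ := h q
    refine ⟨f, hf, ?_⟩
    have e' := fun i : ℤ => ((homologyFunctor
      (ModuleCat.{u} (Localization.Away f)) i).mapIso e).toLinearEquiv
    obtain ⟨e1⟩ := nonempty_hd K (Localization.Away f) m₀
    by_cases hm : m + m₀ = 0
    · exact ⟨(e1.symm.trans (e' m₀)).trans (hdSelf m m₀ hm)⟩
    · have h1 := subsingleton_hdSelf (A := Localization.Away f) m m₀ hm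
      have h2 : Subsingleton (Localization.Away f ⊗[A] Dual.HD A K m₀) :=
        (e1.symm.trans (e' m₀)).toEquiv.subsingleton_congr.2 h1
      obtain ⟨e2⟩ := nonempty_hd K (Localization.Away f) (-m)
      have h3 := hK (-m) (fun h => hm (by omega))
      have h4 : Subsingleton (Localization.Away f ⊗[A] Dual.HD A K (-m)) := by
        refine subsingleton_of_forall_eq 0 fun z => ?_
        induction z with
        | zero => rfl
        | add x y hx hy => rw [hx, hy, add_zero]
        | tmul c x => rw [h3.elim x 0, TensorProduct.tmul_zero]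
      have h5 : Subsingleton (Localization.Away f) :=
        ((e2.symm.trans (e' (-m))).trans (hdSelf m (-m) (by omega))).toEquiv.subsingleton_congr.1 h4
      exact ⟨0⟩
  · intro h q
    obtain ⟨f, hf, ⟨e⟩⟩ := loc_of_invertible (Dual.HD A K m₀) q
    refine ⟨f, hf, -m₀, ?_⟩
    obtain ⟨e1⟩ := nonempty_hd K (Localization.Away f) m₀
    have hz : ∀ i : ℤ, i ≠ m₀ → IsZero ((homologyFunctor (ModuleCat.{u} (Localization.Away f)) i).obj
        ((DRing.LBaseChange (algebraMap A (Localization.Away f))).obj K)) := by
      intro i hi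
      obtain ⟨e2⟩ := nonempty_hd K (Localization.Away f) i
      have h3 := hK i hi
      refine ModuleCat.isZero_iff_subsingleton.2 (e2.toEquiv.subsingleton_congr.2 ?_)
      refine subsingleton_of_forall_eq 0 fun z => ?_
      induction z with
      | zero => rfl
      | add x y hx hy => rw [hx, hy, add_zero]
      | tmul c x => rw [h3.elim x 0, TensorProduct.tmul_zero]
    have hGE : ((DRing.LBaseChange (algebraMap A (Localization.Away f))).obj K).IsGE m₀ := by
      rw [isGE_iff]
      exact fun i hi => hz i hi.ne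
    have hLE : ((DRing.LBaseChange (algebraMap A (Localization.Away f))).obj K).IsLE m₀ := by
      rw [isLE_iff]
      exact fun i hi => hz i hi.ne'
    obtain ⟨e3⟩ := Groth.Agent.LoccohA.DzTrunc.nonempty_iso_single
      ((DRing.LBaseChange (algebraMap A (Localization.Away f))).obj K) m₀
    have e4 : (singleFunctor (ModuleCat.{u} (Localization.Away f)) m₀).obj
        (ModuleCat.of (Localization.Away f) (Localization.Away f)) ≅
        (Dual.inD (Localization.Away f) (Localization.Away f))⟦-m₀⟧ :=
      ((singleFunctors (ModuleCat.{u} (Localization.Away f))).shiftIso (-m₀) m₀ 0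
        (by omega)).symm.app _
    exact ⟨e3 ≪≫ (singleFunctor _ m₀).mapIso (e1.trans e).toModuleIso ≪≫ e4⟩

end Derived

end K173.InvOne
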