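import Groth.Agent.Sga2.RegExt2
import Mathlib.RingTheory.Regular.RegularSequence

/-!
# `Ext^i(A/J, M)` for `J` generated by a weakly regular sequence

* `ses`: the short exact sequence `A/J → A/J → A/(J + xA)`;
* `subsingleton_ext`: `Ext^n(A/J, M) = 0` for `n` greater than the number of generators;
* `nonempty_ext_top`: `Ext^p(A/J, M) = M/JM`;
* `nonempty_ext_killed`: `Ext^i(A/J, M) = M^(p choose i)` if `JM = 0`.
-/

set_option autoImplicit false
universe u

open CategoryTheory Abelian Limits Pointwise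

namespace K173.KosExt

open Groth.Agent.Sga2.RegExt

variable {A : Type u} [CommRing A]

section SES

variable (J J' : Ideal A) (x : A)

/-- `A/J → A/J'`. -/
noncomputable def quotMap (h : J ≤ J') : (A ⧸ J) →ₗ[A] (A ⧸ J') := Submodule.mapQ J J' LinearMap.id h

lemma quotMap_mk (h : J ≤ J') (a : A) :
    quotMap J J' h (Submodule.Quotient.mk a) = Submodule.Quotient.mk a := rfl

lemma quotMap_surjective (h : J ≤ J') : Function.Surjective (quotMap J J' h) := by
  intro y
  obtain ⟨y, rfl⟩ := Submodule.Quotient.mk_surjective _ y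
  exact ⟨Submodule.Quotient.mk y, rfl⟩

variable {J J' x}

lemma le_of (hJ : J' = J ⊔ Ideal.span {x}) : J ≤ J' := hJ ▸ le_sup_left

lemma ses_zero (hJ : J' = J ⊔ Ideal.span {x}) :
    (x • 𝟙 (ModuleCat.of A (A ⧸ J))) ≫
      ModuleCat.ofHom (quotMap J J' (le_of hJ)) = 0 := by
  refine ModuleCat.hom_ext (LinearMap.ext fun y => ?_)
  obtain ⟨y, rfl⟩ := Submodule.Quotient.mk_surjective _ y
  change (Submodule.Quotient.mk (x • y) : A ⧸ J') = 0
  rw [Submodule.Quotient.mk_eq_zero, hJ]
  exact Ideal.mem_sup_right (Ideal.mul_mem_right _ _ (Ideal.mem_span_singleton_self x))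

variable (J x) in
/-- The complex `A/J → A/J → A/J'`. -/
noncomputable abbrev ses (hJ : J' = J ⊔ Ideal.span {x}) : ShortComplex (ModuleCat.{u} A) :=
  ShortComplex.mk (x • 𝟙 (ModuleCat.of A (A ⧸ J)))
    (ModuleCat.ofHom (quotMap J J' (le_of hJ))) (ses_zero hJ)

lemma ses_shortExact (hJ : J' = J ⊔ Ideal.span {x}) (hx : IsSMulRegular (A ⧸ J) x) :
    (ses J x hJ).ShortExact := by
  refine ModuleCat.shortComplex_shortExact _ ?_ ?_ ?_
  · intro y
    constructor
    · intro hy
      obtain ⟨y, rfl⟩ := Submodule.Quotient.mk_surjective _ y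
      have h1 : (Submodule.Quotient.mk y : A ⧸ J') = 0 := hy
      rw [Submodule.Quotient.mk_eq_zero, hJ, Submodule.mem_sup] at h1
      obtain ⟨a, ha, b, hb, rfl⟩ := h1
      obtain ⟨c, rfl⟩ := Ideal.mem_span_singleton'.1 hb
      refine ⟨(Submodule.Quotient.mk c : A ⧸ J), ?_⟩
      change (Submodule.Quotient.mk (x • c) : A ⧸ J) = Submodule.Quotient.mk (a + c * x)
      rw [Submodule.Quotient.eq]
      have : x • c - (a + c * x) = -a := by rw [smul_eq_mul]; ring
      rw [this]
      exact J.neg_mem ha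
    · rintro ⟨z, rfl⟩
      exact congrArg (fun g => g.hom z) (ses_zero hJ)
  · intro (y : A ⧸ J) (z : A ⧸ J) hyz
    exact hx hyz
  · exact quotMap_surjective J J' (le_of hJ)

end SES

section Delta

variable {J J' : Ideal A} {x : A} (hJ : J' = J ⊔ Ideal.span {x}) (hx : IsSMulRegular (A ⧸ J) x)

/-- The connecting map. -/
noncomputable def delta (M : ModuleCat.{u} A) (k : ℕ) :
    Ext (ModuleCat.of A (A ⧸ J)) M k →ₗ[A] Ext (ModuleCat.of A (A ⧸ J')) M (k + 1) :=
  Ext.precompOfLinear (X := (ses J x hJ).X₃) (Y := (ses J x hJ).X₁)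
    (ses_shortExact hJ hx).extClass A M (add_comm 1 k)

lemma delta_apply (M : ModuleCat.{u} A) (k : ℕ) (y : Ext (ModuleCat.of A (A ⧸ J)) M k) :
    delta hJ hx M k y = (ses_shortExact hJ hx).extClass.comp y (add_comm 1 k) := rfl

/-- The pullback map. -/
noncomputable def pull (h : J ≤ J') (M : ModuleCat.{u} A) (k : ℕ) :
    Ext (ModuleCat.of A (A ⧸ J')) M k →ₗ[A] Ext (ModuleCat.of A (A ⧸ J)) M k :=
  Ext.precompOfLinear (Ext.mk₀ (ModuleCat.ofHom (quotMap J J' h))) A M (zero_add k)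

lemma pull_apply (h : J ≤ J') (M : ModuleCat.{u} A) (k : ℕ)
    (y : Ext (ModuleCat.of A (A ⧸ J')) M k) :
    pull h M k y = (Ext.mk₀ (ModuleCat.ofHom (quotMap J J' h))).comp y (zero_add k) := rfl

lemma f_comp (M : ModuleCat.{u} A) (k : ℕ) (z : Ext (ModuleCat.of A (A ⧸ J)) M k) :
    (Ext.mk₀ (ses J x hJ).f).comp z (zero_add k) = x • z := by
  change (Ext.mk₀ (x • 𝟙 _)).comp z (zero_add _) = x • z
  rw [Ext.mk₀_smul, Ext.smul_comp, Ext.mk₀_id_comp]

include hx in
lemma delta_eq_zero_iff (M : ModuleCat.{u} A) (k : ℕ) (y : Ext (ModuleCat.of A (A ⧸ J)) M k) :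
    delta hJ hx M k y = 0 ↔ ∃ z, x • z = y := by
  constructor
  · intro hy
    obtain ⟨z, hz⟩ := Ext.contravariant_sequence_exact₁ (ses_shortExact hJ hx) M y (add_comm 1 k) hy
    exact ⟨z, by rw [← hz, f_comp hJ]⟩
  · rintro ⟨z, rfl⟩
    rw [← f_comp hJ, delta_apply]
    exact (ses_shortExact hJ hx).extClass_comp_assoc z

include hx in
lemma pull_eq_zero_iff (M : ModuleCat.{u} A) (k : ℕ) (y : Ext (ModuleCat.of A (A ⧸ J')) M (k + 1)) :
    pull (le_of hJ) M (k + 1) y = 0 ↔ ∃ z, delta hJ hx M k z = y := by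
  constructor
  · intro hy
    exact Ext.contravariant_sequence_exact₃ (ses_shortExact hJ hx) M y hy (add_comm 1 k)
  · rintro ⟨z, rfl⟩
    rw [delta_apply, pull_apply]
    exact (ses_shortExact hJ hx).comp_extClass_assoc z (add_comm 1 k)

include hx in
lemma pull_zero_injective (M : ModuleCat.{u} A) :
    Function.Injective (pull (J := J) (J' := J') (le_of hJ) M 0) := by
  have : Epi (ModuleCat.ofHom (quotMap J J' (le_of hJ))) :=
    (ModuleCat.epi_iff_surjective _).2 (quotMap_surjective J J' (le_of hJ))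
  rw [injective_iff_map_eq_zero]
  intro y hy
  exact Ext.precomp_mk₀_injective_of_epi M (ModuleCat.ofHom (quotMap J J' (le_of hJ)))
    (a₁ := y) (a₂ := 0) (by rw [map_zero]; exact hy)

include hx in
lemma exists_pull_eq (M : ModuleCat.{u} A) (k : ℕ) (y : Ext (ModuleCat.of A (A ⧸ J)) M k)
    (hy : x • y = 0) : ∃ z, pull (le_of hJ) M k z = y := by
  obtain ⟨z, hz⟩ := Ext.contravariant_sequence_exact₂ (ses_shortExact hJ hx) M y
    (by rw [f_comp hJ, hy])
  exact ⟨z, hz⟩

lemma delta_comp {M N : ModuleCat.{u} A} (g : M ⟶ N) (k : ℕ)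
    (y : Ext (ModuleCat.of A (A ⧸ J)) M k) :
    delta hJ hx N k (y.comp (Ext.mk₀ g) (add_zero k)) =
      (delta hJ hx M k y).comp (Ext.mk₀ g) (add_zero (k + 1)) := by
  rw [delta_apply, delta_apply]
  exact (Ext.comp_assoc_of_third_deg_zero _ y _ (add_comm 1 k)).symm

lemma pull_comp (h : J ≤ J') {M N : ModuleCat.{u} A} (g : M ⟶ N) (k : ℕ)
    (y : Ext (ModuleCat.of A (A ⧸ J')) M k) :
    pull h N k (y.comp (Ext.mk₀ g) (add_zero k)) =
      (pull h M k y).comp (Ext.mk₀ g) (add_zero k) := by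
  rw [pull_apply, pull_apply]
  exact (Ext.comp_assoc_of_third_deg_zero _ y _ (zero_add k)).symm

end Delta

lemma ofList_append_singleton (ys : List A) (x : A) :
    Ideal.ofList (ys ++ [x]) = Ideal.ofList ys ⊔ Ideal.span {x} := by
  rw [Ideal.ofList_append, Ideal.ofList_singleton]

lemma regular_of_append {ys : List A} {x : A}
    (h : RingTheory.Sequence.IsWeaklyRegular A (ys ++ [x])) :
    RingTheory.Sequence.IsWeaklyRegular A ys ∧ IsSMulRegular (A ⧸ Ideal.ofList ys) x := by
  rw [RingTheory.Sequence.isWeaklyRegular_append_iff] at h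
  refine ⟨h.1, ?_⟩
  have h2 := (RingTheory.Sequence.isWeaklyRegular_singleton_iff _ x).1 h.2
  have e : (A ⧸ (Ideal.ofList ys • (⊤ : Submodule A A))) ≃ₗ[A] (A ⧸ Ideal.ofList ys) :=
    Submodule.quotEquivOfEq _ _ (by simp)
  exact (e.isSMulRegular_congr x).1 h2

/-- `A/0 = A`. -/
noncomputable def quotNil : (A ⧸ Ideal.ofList ([] : List A)) ≃ₗ[A] A :=
  Submodule.quotEquivOfEqBot _ (Ideal.ofList_nil)

instance : Projective (ModuleCat.of A (A ⧸ Ideal.ofList ([] : List A))) :=
  Projective.of_iso (quotNil (A := A)).symm.toModuleIso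
    (ModuleCat.projective_of_free (M := ModuleCat.of A A) (Module.Free.chooseBasis A A))

theorem subsingleton_ext (xs : List A) (hreg : RingTheory.Sequence.IsWeaklyRegular A xs)
    (M : ModuleCat.{u} A) (n : ℕ) (hn : xs.length < n) :
    Subsingleton (Ext (ModuleCat.of A (A ⧸ Ideal.ofList xs)) M n) := by
  induction xs using List.reverseRecOn generalizing n with
  | nil =>
    obtain ⟨n, rfl⟩ := Nat.exists_eq_succ_of_ne_zero (Nat.pos_iff_ne_zero.1 hn)
    exact subsingleton_of_forall_eq 0 fun y => Ext.eq_zero_of_projective y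
  | append_singleton ys x ih =>
    obtain ⟨h1, h2⟩ := regular_of_append hreg
    have hJ := ofList_append_singleton ys x
    rw [List.length_append, List.length_singleton] at hn
    obtain ⟨n, rfl⟩ : ∃ m, n = m + 1 := ⟨n - 1, by omega⟩
    have h3 := ih h1 n (by omega)
    have h4 := ih h1 (n + 1) (by omega)
    refine subsingleton_of_forall_eq 0 fun y => ?_
    obtain ⟨z, hz⟩ := (pull_eq_zero_iff hJ h2 M n y).1 (h4.elim _ _)
    rw [← hz, h3.elim z 0, map_zero]

/-- `Ext^0(A/0, M) = M`. -/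
noncomputable def extNil (M : ModuleCat.{u} A) :
    Ext (ModuleCat.of A (A ⧸ Ideal.ofList ([] : List A))) M 0 ≃ₗ[A] M :=
  (Ext.linearEquiv₀ (R := A)).trans (ModuleCat.homLinearEquiv.trans
    ((LinearEquiv.congrLeft M A quotNil).trans (LinearMap.ringLmapEquivSelf A A M)))

/-- The inductive step for the top `Ext`. -/
theorem nonempty_step {J J' : Ideal A} {x : A} (hJ : J' = J ⊔ Ideal.span {x})
    (hx : IsSMulRegular (A ⧸ J) x) (M : ModuleCat.{u} A) (k : ℕ)
    (hsub : Subsingleton (Ext (ModuleCat.of A (A ⧸ J)) M (k + 1)))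
    (e : Ext (ModuleCat.of A (A ⧸ J)) M k ≃ₗ[A] (M ⧸ (J • (⊤ : Submodule A M)))) :
    Nonempty (Ext (ModuleCat.of A (A ⧸ J')) M (k + 1) ≃ₗ[A]
      (M ⧸ (J' • (⊤ : Submodule A M)))) := by
  let φ : M →ₗ[A] Ext (ModuleCat.of A (A ⧸ J')) M (k + 1) :=
    delta hJ hx M k ∘ₗ e.symm.toLinearMap ∘ₗ Submodule.mkQ (J • (⊤ : Submodule A M))
  have hφ : Function.Surjective φ :=
    (show Function.Surjective (delta hJ hx M k) from fun y =>
      (pull_eq_zero_iff hJ hx M k y).1 (hsub.elim _ _)).comp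
      (e.symm.surjective.comp (Submodule.mkQ_surjective _))
  have hker : LinearMap.ker φ = J' • (⊤ : Submodule A M) := by
    ext m
    rw [LinearMap.mem_ker]
    change delta hJ hx M k (e.symm (Submodule.Quotient.mk m)) = 0 ↔ m ∈ J' • (⊤ : Submodule A M)
    have hJ' : J' • (⊤ : Submodule A M) = J • (⊤ : Submodule A M) ⊔ x • (⊤ : Submodule A M) := by
      rw [hJ, Submodule.sup_smul, Submodule.ideal_span_singleton_smul]
    rw [delta_eq_zero_iff hJ hx, hJ', Submodule.mem_sup]
    constructor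
    · rintro ⟨z, hz⟩
      have h4 : x • e z = Submodule.Quotient.mk m := by
        rw [← map_smul, hz, e.apply_symm_apply]
      obtain ⟨w, hw⟩ := Submodule.Quotient.mk_surjective _ (e z)
      rw [← hw, ← Submodule.Quotient.mk_smul, Submodule.Quotient.eq] at h4
      exact ⟨-(x • w - m), Submodule.neg_mem _ h4, x • w,
        Submodule.smul_mem_pointwise_smul _ _ _ Submodule.mem_top, by abel⟩
    · rintro ⟨a, ha, b, ⟨w, -, rfl⟩, rfl⟩
      refine ⟨e.symm (Submodule.Quotient.mk w), ?_⟩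
      rw [← map_smul, ← Submodule.Quotient.mk_smul]
      congr 1
      rw [Submodule.Quotient.eq]
      change x • w - (a + x • w) ∈ _
      have : x • w - (a + x • w) = -a := by abel
      rw [this]
      exact Submodule.neg_mem _ ha
  exact ⟨((Submodule.quotEquivOfEq _ _ hker.symm).trans
    (φ.quotKerEquivOfSurjective hφ)).symm⟩

/-- `Ext^p(A/J, M) = M/JM`. -/
theorem nonempty_ext_top (xs : List A) (hreg : RingTheory.Sequence.IsWeaklyRegular A xs)
    (M : ModuleCat.{u} A) :
    Nonempty (Ext (ModuleCat.of A (A ⧸ Ideal.ofList xs)) M xs.length ≃ₗ[A]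
      (M ⧸ (Ideal.ofList xs • (⊤ : Submodule A M)))) := by
  induction xs using List.reverseRecOn with
  | nil =>
    exact ⟨(extNil M).trans (Submodule.quotEquivOfEqBot _ (by simp)).symm⟩
  | append_singleton ys x ih =>
    obtain ⟨h1, h2⟩ := regular_of_append hreg
    obtain ⟨e⟩ := ih h1
    have hlen : (ys ++ [x]).length = ys.length + 1 := by simp
    rw [hlen]
    exact nonempty_step (ofList_append_singleton ys x) h2 M ys.length
      (subsingleton_ext ys h1 M _ (Nat.lt_succ_self _)) e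

end K173.KosExt
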