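import Groth.Agent.Dual.K173.KosExt

/-!
# `Ext^i(A/J, M) = M^(p choose i)` if `J` is generated by a weakly regular sequence of length `p` and `JM = 0`
-/

set_option autoImplicit false
universe u

open CategoryTheory Abelian Limits Pointwise

namespace K173.KosExt

open Groth.Agent.Sga2.RegExt

variable {A : Type u} [CommRing A]

/-- `Σ_j (e_j)_* m_j`. -/
noncomputable def psi {J K : Ideal A} {n : ℕ} {ι : Type} [Fintype ι]
    (e : ι → Ext (ModuleCat.of A (A ⧸ J)) (ModuleCat.of A (A ⧸ K)) n) (M : ModuleCat.{u} A)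
    (hM : ∀ a ∈ K, ∀ m : M, a • m = 0) :
    (ι → M) →ₗ[A] Ext (ModuleCat.of A (A ⧸ J)) M n :=
  ∑ j : ι, (show (ι → M) →ₗ[A] Ext (ModuleCat.of A (A ⧸ J)) M n from
    { toFun := fun m => (e j).comp (Ext.mk₀ (ModuleCat.ofHom ((homQuotEquiv K M hM).symm (m j))))
        (add_zero n)
      map_add' := fun m m' => by
        rw [← Ext.comp_add, ← Ext.mk₀_add, Pi.add_apply, map_add]
        rfl
      map_smul' := fun a m => by
        rw [RingHom.id_apply, ← Ext.comp_smul, ← Ext.mk₀_smul, Pi.smul_apply, map_smul]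
        rfl })

lemma psi_apply {J K : Ideal A} {n : ℕ} {ι : Type} [Fintype ι]
    (e : ι → Ext (ModuleCat.of A (A ⧸ J)) (ModuleCat.of A (A ⧸ K)) n) (M : ModuleCat.{u} A)
    (hM : ∀ a ∈ K, ∀ m : M, a • m = 0) (m : ι → M) :
    psi e M hM m = ∑ j, (e j).comp
      (Ext.mk₀ (ModuleCat.ofHom ((homQuotEquiv K M hM).symm (m j)))) (add_zero n) := by
  rw [psi, LinearMap.sum_apply]
  rfl

section

variable {J J' : Ideal A} {x : A} (hJ : J' = J ⊔ Ideal.span {x}) (hx : IsSMulRegular (A ⧸ J) x)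
  {K : Ideal A} {n : ℕ} {ι : Type} [Fintype ι]

lemma delta_psi (e : ι → Ext (ModuleCat.of A (A ⧸ J)) (ModuleCat.of A (A ⧸ K)) n)
    (M : ModuleCat.{u} A) (hM : ∀ a ∈ K, ∀ m : M, a • m = 0) (m : ι → M) :
    delta hJ hx M n (psi e M hM m) = psi (fun j => delta hJ hx _ n (e j)) M hM m := by
  rw [psi_apply, psi_apply, map_sum]
  exact Finset.sum_congr rfl fun j _ => delta_comp hJ hx _ n (e j)

lemma pull_psi (h : J ≤ J') (e : ι → Ext (ModuleCat.of A (A ⧸ J')) (ModuleCat.of A (A ⧸ K)) n)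
    (M : ModuleCat.{u} A) (hM : ∀ a ∈ K, ∀ m : M, a • m = 0) (m : ι → M) :
    pull h M n (psi e M hM m) = psi (fun j => pull h _ n (e j)) M hM m := by
  rw [psi_apply, psi_apply, map_sum]
  exact Finset.sum_congr rfl fun j _ => pull_comp h _ n (e j)

lemma smul_eq_zero_of_killed (M : ModuleCat.{u} A) (hM : ∀ a ∈ K, ∀ m : M, a • m = 0)
    (hxK : x ∈ K) (k : ℕ) (N : ModuleCat.{u} A) (y : Ext N M k) : x • y = 0 := by
  have h1 : x • 𝟙 M = 0 := by
    refine ModuleCat.hom_ext (LinearMap.ext fun m => ?_)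
    exact hM x hxK m
  rw [Ext.smul_eq_comp_mk₀, h1, Ext.mk₀_zero, Ext.comp_zero]

end

/-- `Ext^n(A/J, M) = M^r` for modules `M` killed by `K`, through classes in `Ext^n(A/J, A/K)`. -/
def HasBasis (J K : Ideal A) (n r : ℕ) : Prop :=
  ∃ (ι : Type) (_ : Fintype ι) (e : ι → Ext (ModuleCat.of A (A ⧸ J)) (ModuleCat.of A (A ⧸ K)) n),
    Fintype.card ι = r ∧ ∀ (M : ModuleCat.{u} A) (hM : ∀ a ∈ K, ∀ m : M, a • m = 0),
      Function.Bijective (psi e M hM)

lemma killed_quot (K : Ideal A) (a : A) (ha : a ∈ K) (m : A ⧸ K) : a • m = 0 := by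
  obtain ⟨m, rfl⟩ := Submodule.Quotient.mk_surjective _ m
  rw [← Submodule.Quotient.mk_smul, Submodule.Quotient.mk_eq_zero]
  exact Ideal.mul_mem_right _ _ ha

theorem HasBasis.step {J J' K : Ideal A} {x : A} (hJ : J' = J ⊔ Ideal.span {x})
    (hx : IsSMulRegular (A ⧸ J) x) (hxK : x ∈ K) {n r s : ℕ} (h₁ : HasBasis J K n r)
    (h₂ : HasBasis J K (n + 1) s) : HasBasis J' K (n + 1) (r + s) := by
  obtain ⟨ι₁, _, e₁, hc₁, he₁⟩ := h₁
  obtain ⟨ι₂, _, e₂, hc₂, he₂⟩ := h₂
  have hlift (j : ι₂) : ∃ z, pull (le_of hJ) _ (n + 1) z = e₂ j :=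
    exists_pull_eq hJ hx _ _ _
      (smul_eq_zero_of_killed (ModuleCat.of A (A ⧸ K)) (fun a ha m => killed_quot K a ha m) hxK _ _ _)
  choose l hl using hlift
  refine ⟨ι₁ ⊕ ι₂, inferInstance, Sum.elim (fun j => delta hJ hx _ n (e₁ j)) l, ?_,
    fun M hM => ?_⟩
  · rw [Fintype.card_sum, hc₁, hc₂]
  have key (m : ι₁ ⊕ ι₂ → M) :
      psi (Sum.elim (fun j => delta hJ hx _ n (e₁ j)) l) M hM m =
        delta hJ hx M n (psi e₁ M hM (fun j => m (Sum.inl j))) +
          psi l M hM (fun j => m (Sum.inr j)) := by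
    rw [delta_psi, psi_apply, psi_apply, psi_apply, Fintype.sum_sum_type]
    rfl
  have hpl (m : ι₂ → M) : pull (le_of hJ) M (n + 1) (psi l M hM m) = psi e₂ M hM m := by
    rw [pull_psi]
    congr 2
    funext j
    exact hl j
  have hpd (y : Ext (ModuleCat.of A (A ⧸ J)) M n) :
      pull (le_of hJ) M (n + 1) (delta hJ hx M n y) = 0 :=
    (pull_eq_zero_iff hJ hx M n _).2 ⟨y, rfl⟩
  constructor
  · rw [injective_iff_map_eq_zero]
    intro m hm
    rw [key] at hm
    have h1 := congrArg (pull (le_of hJ) M (n + 1)) hm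
    rw [map_add, hpd, hpl, zero_add, map_zero] at h1
    have h2 : (fun j => m (Sum.inr j)) = 0 := (he₂ M hM).1 (by rw [h1, map_zero])
    rw [h2, map_zero, add_zero] at hm
    obtain ⟨z, hz⟩ := (delta_eq_zero_iff hJ hx M n _).1 hm
    rw [smul_eq_zero_of_killed M hM hxK] at hz
    have h3 : (fun j => m (Sum.inl j)) = 0 := (he₁ M hM).1 (by rw [← hz, map_zero])
    funext j
    rcases j with j | j
    · exact congrFun h3 j
    · exact congrFun h2 j
  · intro y
    obtain ⟨m₂, hm₂⟩ := (he₂ M hM).2 (pull (le_of hJ) M (n + 1) y)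
    obtain ⟨z, hz⟩ := (pull_eq_zero_iff hJ hx M n (y - psi l M hM m₂)).1 (by
      rw [map_sub, hpl, hm₂, sub_self])
    obtain ⟨m₁, hm₁⟩ := (he₁ M hM).2 z
    refine ⟨Sum.elim m₁ m₂, ?_⟩
    rw [key]
    have h1 : (fun j => (Sum.elim m₁ m₂ : ι₁ ⊕ ι₂ → M) (Sum.inl j)) = m₁ := rfl
    have h2 : (fun j => (Sum.elim m₁ m₂ : ι₁ ⊕ ι₂ → M) (Sum.inr j)) = m₂ := rfl
    rw [h1, h2, hm₁, hz, sub_add_cancel]

theorem HasBasis.step_zero {J J' K : Ideal A} {x : A} (hJ : J' = J ⊔ Ideal.span {x})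
    (hx : IsSMulRegular (A ⧸ J) x) (hxK : x ∈ K) {s : ℕ}
    (h₂ : HasBasis J K 0 s) : HasBasis J' K 0 s := by
  obtain ⟨ι₂, _, e₂, hc₂, he₂⟩ := h₂
  have hlift (j : ι₂) : ∃ z, pull (le_of hJ) _ 0 z = e₂ j :=
    exists_pull_eq hJ hx _ _ _
      (smul_eq_zero_of_killed (ModuleCat.of A (A ⧸ K)) (fun a ha m => killed_quot K a ha m) hxK _ _ _)
  choose l hl using hlift
  refine ⟨ι₂, inferInstance, l, hc₂, fun M hM => ?_⟩
  have hpl (m : ι₂ → M) : pull (le_of hJ) M 0 (psi l M hM m) = psi e₂ M hM m := by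
    rw [pull_psi]
    congr 2
    funext j
    exact hl j
  constructor
  · rw [injective_iff_map_eq_zero]
    intro m hm
    refine (he₂ M hM).1 ?_
    rw [← hpl, hm, map_zero, map_zero]
  · intro y
    obtain ⟨m₂, hm₂⟩ := (he₂ M hM).2 (pull (le_of hJ) M 0 y)
    refine ⟨m₂, pull_zero_injective hJ hx M ?_⟩
    rw [hpl, hm₂]

theorem hasBasis_nil (K : Ideal A) (n : ℕ) :
    HasBasis (Ideal.ofList ([] : List A)) K n (Nat.choose 0 n) := by
  rcases n with _ | n
  · have hle : Ideal.ofList ([] : List A) ≤ K := by simp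
    refine ⟨Unit, inferInstance, fun _ => Ext.mk₀ (ModuleCat.ofHom (quotMap _ K hle)), rfl,
      fun M hM => ?_⟩
    have key (m : Unit → M) : psi (fun _ : Unit => Ext.mk₀ (ModuleCat.ofHom
        (quotMap (Ideal.ofList ([] : List A)) K hle))) M hM m =
        Ext.mk₀ (ModuleCat.ofHom ((homQuotEquiv K M hM).symm (m ()) ∘ₗ quotMap _ K hle)) := by
      rw [psi_apply, Fintype.sum_unique, Ext.mk₀_comp_mk₀]
      rfl
    constructor
    · rw [injective_iff_map_eq_zero]
      intro m hm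
      rw [key, Ext.mk₀_eq_zero_iff] at hm
      have h1 := congrArg (fun g => g.hom (Submodule.Quotient.mk 1)) hm
      funext j
      have h2 : (homQuotEquiv K M hM).symm (m ()) (quotMap _ K hle (Submodule.Quotient.mk 1)) = 0 := h1
      have h3 : (homQuotEquiv K M hM) ((homQuotEquiv K M hM).symm (m ())) = 0 := h2
      rw [LinearEquiv.apply_symm_apply] at h3
      exact h3
    · intro y
      obtain ⟨f, rfl⟩ := (Ext.mk₀_bijective _ _).2 y
      refine ⟨fun _ => f.hom (Submodule.Quotient.mk 1), ?_⟩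
      rw [key]
      congr 1
      refine ModuleCat.hom_ext (LinearMap.ext fun a => ?_)
      obtain ⟨a, rfl⟩ := Submodule.Quotient.mk_surjective _ a
      change a • f.hom (Submodule.Quotient.mk 1) = f.hom (Submodule.Quotient.mk a)
      rw [← map_smul, ← Submodule.Quotient.mk_smul, smul_eq_mul, mul_one]
  · refine ⟨Empty, inferInstance, Empty.elim, rfl, fun M hM => ?_⟩
    have h1 := subsingleton_ext ([] : List A) (RingTheory.Sequence.IsWeaklyRegular.nil A A) M
      (n + 1) (Nat.succ_pos n)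
    exact ⟨fun _ _ _ => Subsingleton.elim _ _, fun y => ⟨0, h1.elim _ _⟩⟩

theorem hasBasis (xs : List A) (hreg : RingTheory.Sequence.IsWeaklyRegular A xs) (K : Ideal A)
    (hK : ∀ x ∈ xs, x ∈ K) (n : ℕ) : HasBasis (Ideal.ofList xs) K n (xs.length.choose n) := by
  induction xs using List.reverseRecOn generalizing n with
  | nil => exact hasBasis_nil K n
  | append_singleton ys x ih =>
    obtain ⟨h1, h2⟩ := regular_of_append hreg
    have hJ := ofList_append_singleton ys x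
    have hlen : (ys ++ [x]).length = ys.length + 1 := by simp
    have ih' := ih h1 (fun y hy => hK y (by simp [hy]))
    rw [hlen]
    rcases n with _ | n
    · have h3 := (ih' 0).step_zero hJ h2 (hK x (by simp))
      rwa [Nat.choose_zero_right] at h3 ⊢
    · rw [Nat.choose_succ_succ]
      exact (ih' n).step hJ h2 (hK x (by simp)) (ih' (n + 1))

theorem nonempty_ext_killed (xs : List A) (hreg : RingTheory.Sequence.IsWeaklyRegular A xs)
    (M : ModuleCat.{u} A) (hJM : ∀ a ∈ Ideal.ofList xs, ∀ m : M, a • m = 0) (i : ℕ) :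
    Nonempty (Ext (ModuleCat.of A (A ⧸ Ideal.ofList xs)) M i ≃ₗ[A]
      (Fin (xs.length.choose i) → M)) := by
  obtain ⟨ι, _, e, hc, he⟩ := hasBasis xs hreg (Ideal.ofList xs)
    (fun x hx => Ideal.subset_span hx) i
  let e' := Fintype.equivFinOfCardEq hc
  exact ⟨(LinearEquiv.ofBijective _ (he M hJM)).symm.trans (LinearEquiv.funCongrLeft A M e'.symm)⟩

end K173.KosExt
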