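import Groth.Agent.Dual.K173.TorSymm
import Groth.Agent.Dual.K173.KosExt

/-!
# `Tor_n(A/J, M)` for `J` generated by a weakly regular sequence

* `subsingleton_tor`: vanishing above the number of generators;
* `nonempty_tor_top`: `Tor_p(A/J, M) ≅ Hom(A/J, M)`.
-/

set_option autoImplicit false
universe u

open CategoryTheory CategoryTheory.Limits MonoidalCategory

namespace K173.KosTor

open Groth.Agent.LoccohA.TorLES Groth.Agent.LoccohA.LCLinear K173.KosExt

variable {A : Type u} [CommRing A]

/-- `x` acts as `x` on `Tor`. -/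
lemma tor_map_smul (n : ℕ) (M N : ModuleCat.{u} A) (x : A) :
    ((Tor (ModuleCat.{u} A) n).map (x • 𝟙 M)).app N =
      x • 𝟙 (((Tor (ModuleCat.{u} A) n).obj M).obj N) := by
  have h := leftDerived_app_smul (R := A) (((tensoringLeft (ModuleCat.{u} A)).map (𝟙 M)))
    ((tensoringLeft (ModuleCat.{u} A)).map (x • 𝟙 M)) x (fun X => by
      refine ModuleCat.hom_ext ?_
      refine TensorProduct.ext' fun a b => ?_
      rfl) n N
  have h2 : (NatTrans.leftDerived ((tensoringLeft (ModuleCat.{u} A)).map (𝟙 M)) n).app N =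
      𝟙 (((Tor (ModuleCat.{u} A) n).obj M).obj N) := by
    have := congrArg (fun t => t.app N) ((Tor (ModuleCat.{u} A) n).map_id M)
    exact this
  rw [h2] at h
  exact h

section Step

variable {J J' : Ideal A} {x : A} (hJ : J' = J ⊔ Ideal.span {x}) (hx : IsSMulRegular (A ⧸ J) x)

include hJ hx in
theorem subsingleton_step (M : ModuleCat.{u} A) (n : ℕ)
    (h1 : Subsingleton (((Tor (ModuleCat.{u} A) n).obj (ModuleCat.of A (A ⧸ J))).obj M))
    (h2 : Subsingleton (((Tor (ModuleCat.{u} A) (n + 1)).obj (ModuleCat.of A (A ⧸ J))).obj M)) :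
    Subsingleton (((Tor (ModuleCat.{u} A) (n + 1)).obj (ModuleCat.of A (A ⧸ J'))).obj M) := by
  have hS := ses_shortExact hJ hx
  have e1 := exact_map_δ hS M n
  refine subsingleton_of_forall_eq 0 fun y => ?_
  obtain ⟨z, rfl⟩ := (e1 y).1 (h1.elim _ _)
  rw [h2.elim z 0, map_zero]

include hJ hx in
theorem nonempty_step (M : ModuleCat.{u} A) (n : ℕ)
    (h2 : Subsingleton (((Tor (ModuleCat.{u} A) (n + 1)).obj (ModuleCat.of A (A ⧸ J))).obj M))
    (e : (((Tor (ModuleCat.{u} A) n).obj (ModuleCat.of A (A ⧸ J))).obj M : ModuleCat.{u} A) ≃ₗ[A]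
      ((A ⧸ J) →ₗ[A] M)) :
    Nonempty ((((Tor (ModuleCat.{u} A) (n + 1)).obj (ModuleCat.of A (A ⧸ J'))).obj M :
      ModuleCat.{u} A) ≃ₗ[A] ((A ⧸ J') →ₗ[A] M)) := by
  have hS := ses_shortExact hJ hx
  have e1 := exact_map_δ hS M n
  have e2 := exact_δ_map hS M n
  have hinj : Function.Injective (torδ hS M n).hom := by
    rw [injective_iff_map_eq_zero]
    intro y hy
    obtain ⟨z, rfl⟩ := (e1 y).1 hy
    rw [h2.elim z 0, map_zero]
  have hf : ∀ y, (((Tor (ModuleCat.{u} A) n).map (ses J x hJ).f).app M).hom y = x • y := fun y =>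
    congrArg (fun t => t.hom y) (tor_map_smul n (ModuleCat.of A (A ⧸ J)) M x)
  let ψ : ((A ⧸ J') →ₗ[A] M) →ₗ[A] ((A ⧸ J) →ₗ[A] M) :=
    LinearMap.lcomp A M (quotMap J J' (le_of hJ))
  have hψ : Function.Injective ψ := by
    intro f g hfg
    refine LinearMap.ext fun y => ?_
    obtain ⟨y, rfl⟩ := quotMap_surjective J J' (le_of hJ) y
    exact LinearMap.congr_fun hfg y
  have hrange : ∀ g, (∃ f, ψ f = g) ↔ x • g = 0 := by
    intro g
    constructor
    · rintro ⟨f, rfl⟩
      refine LinearMap.ext fun y => ?_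
      have h3 := congrArg (fun t => t.hom y) (ses_zero hJ)
      have h4 : quotMap J J' (le_of hJ) (x • y) = 0 := h3
      change x • f (quotMap J J' (le_of hJ) y) = 0
      rw [← map_smul, ← map_smul, h4, map_zero]
    · intro hg
      have hle : J' ≤ LinearMap.ker (g ∘ₗ Submodule.mkQ J) := by
        rw [hJ]
        refine sup_le ?_ ?_
        · intro a ha
          rw [LinearMap.mem_ker]
          change g (Submodule.Quotient.mk a) = 0
          rw [(Submodule.Quotient.mk_eq_zero J).2 ha, map_zero]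
        · rw [Ideal.span_singleton_le_iff_mem]
          change g (Submodule.Quotient.mk x) = 0
          have h5 : (Submodule.Quotient.mk x : A ⧸ J) = x • Submodule.Quotient.mk 1 := by
            rw [← Submodule.Quotient.mk_smul, smul_eq_mul, mul_one]
          rw [h5, map_smul]
          exact LinearMap.congr_fun hg (Submodule.Quotient.mk 1)
      refine ⟨Submodule.liftQ J' (g ∘ₗ Submodule.mkQ J) hle, LinearMap.ext fun y => ?_⟩
      obtain ⟨y, rfl⟩ := Submodule.Quotient.mk_surjective _ y
      rfl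
  have hr : (LinearMap.range (torδ hS M n).hom).map e.toLinearMap = LinearMap.range ψ := by
    ext g
    rw [Submodule.mem_map, LinearMap.mem_range]
    change _ ↔ ∃ f, ψ f = g
    rw [hrange]
    constructor
    · rintro ⟨y, hy, rfl⟩
      have h3 := (e2 y).2 hy
      rw [hf] at h3
      change x • e y = 0
      rw [← map_smul, h3, map_zero]
    · intro hg
      refine ⟨e.symm g, (e2 _).1 ?_, e.apply_symm_apply g⟩
      rw [hf, ← map_smul, hg, map_zero]
  exact ⟨((LinearEquiv.ofInjective _ hinj).trans (LinearEquiv.ofSubmodules e _ _ hr)).trans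
    (LinearEquiv.ofInjective ψ hψ).symm⟩

end Step

instance : Module.Flat A (A ⧸ Ideal.ofList ([] : List A)) :=
  Module.Flat.of_linearEquiv (quotNil (A := A))

instance : Module.Flat A (ModuleCat.of A (A ⧸ Ideal.ofList ([] : List A))) :=
  inferInstanceAs (Module.Flat A (A ⧸ Ideal.ofList ([] : List A)))

theorem subsingleton_tor (xs : List A) (hreg : RingTheory.Sequence.IsWeaklyRegular A xs)
    (M : ModuleCat.{u} A) (n : ℕ) (hn : xs.length < n) :
    Subsingleton (((Tor (ModuleCat.{u} A) n).obj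
      (ModuleCat.of A (A ⧸ Ideal.ofList xs))).obj M) := by
  induction xs using List.reverseRecOn generalizing n with
  | nil =>
    obtain ⟨n, rfl⟩ := Nat.exists_eq_succ_of_ne_zero (Nat.pos_iff_ne_zero.1 hn)
    exact subsingleton_tor_of_flat _ _ _
  | append_singleton ys x ih =>
    obtain ⟨h1, h2⟩ := regular_of_append hreg
    rw [List.length_append, List.length_singleton] at hn
    obtain ⟨n, rfl⟩ : ∃ m, n = m + 1 := ⟨n - 1, by omega⟩
    exact subsingleton_step (ofList_append_singleton ys x) h2 M n (ih h1 n (by omega))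
      (ih h1 (n + 1) (by omega))

/-- `Tor_p(A/J, M) = Hom(A/J, M)`. -/
theorem nonempty_tor_top (xs : List A) (hreg : RingTheory.Sequence.IsWeaklyRegular A xs)
    (M : ModuleCat.{u} A) :
    Nonempty ((((Tor (ModuleCat.{u} A) xs.length).obj
      (ModuleCat.of A (A ⧸ Ideal.ofList xs))).obj M : ModuleCat.{u} A) ≃ₗ[A]
        ((A ⧸ Ideal.ofList xs) →ₗ[A] M)) := by
  induction xs using List.reverseRecOn with
  | nil =>
    have e1 : ((ModuleCat.of A (A ⧸ Ideal.ofList ([] : List A)) ⊗ M : ModuleCat.{u} A)) ≃ₗ[A]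
        M :=
      (TensorProduct.congr (quotNil (A := A)) (LinearEquiv.refl A M)).trans (TensorProduct.lid A M)
    exact ⟨(tor0Iso (ModuleCat.of A (A ⧸ Ideal.ofList ([] : List A))) M).toLinearEquiv.trans
      (e1.trans ((LinearEquiv.congrLeft M A quotNil).trans
        (LinearMap.ringLmapEquivSelf A A M)).symm)⟩
  | append_singleton ys x ih =>
    obtain ⟨h1, h2⟩ := regular_of_append hreg
    obtain ⟨e⟩ := ih h1
    have hlen : (ys ++ [x]).length = ys.length + 1 := by simp
    rw [hlen]
    exact nonempty_step (ofList_append_singleton ys x) h2 M ys.length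
      (subsingleton_tor ys h1 M _ (Nat.lt_succ_self _)) e

end K173.KosTor
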