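import Groth.Agent.LoccohB.BassCritD
import Groth.Agent.LoccohA.DzLocal
import Mathlib.RingTheory.Ideal.MinimalPrime.Noetherian

/-!
# The dimension function of a pointwise dualizing complex

`A` Noetherian, `R` in `D(A)` bounded below with finite cohomology, all of whose localizations at primes are
dualizing. Then there is `d : Spec A → ℤ` with `Hom(A/p, R[i])_p ≠ 0` iff `i = d p`, and `d q = d p + 1` for
`p ⋖ q`. If `A` has finite dimension, `R` is dualizing.
-/

set_option autoImplicit false
universe u

open CategoryTheory CategoryTheory.Limits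
open scoped TensorProduct

attribute [local instance] HasDerivedCategory.standard

namespace K173.PtDim

open DerivedCategory Groth.Agent.LoccohB Groth.Agent.LoccohB.HomBC Groth.Agent.LoccohB.FlatLBC
  Groth.Agent.LoccohB.BassCrit Groth.Agent.LoccohA.DzExact Groth.Agent.LoccohA.DzDim
  Groth.Agent.LoccohA.DzOrder

variable {A : Type u} [CommRing A]

section Van

universe w

lemma vanAt_equiv {p : Ideal A} {V W : Type*} [AddCommGroup V] [Module A V] [AddCommGroup W]
    [Module A W] (e : V ≃ₗ[A] W) : VanAt A p V ↔ VanAt A p W :=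
  ⟨fun h => VanAt.of_surjective e.toLinearMap e.surjective h,
    fun h => VanAt.of_injective e.toLinearMap e.injective h⟩

variable (B : Type u) [CommRing B] [Algebra A B]

/-- vanishing at a prime of a localization. -/
lemma vanAt_tensor_iff (q p : Ideal A) [q.IsPrime] [IsLocalization.AtPrime B q] (hpq : p ≤ q)
    (P : Ideal B) [P.IsPrime] (hP : P.comap (algebraMap A B) = p)
    (V : Type w) [AddCommGroup V] [Module A V] :
    VanAt B P (B ⊗[A] V) ↔ VanAt A p V := by
  subst hP
  constructor
  · intro h v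
    obtain ⟨b, hb, hbv⟩ := h (1 ⊗ₜ v)
    obtain ⟨⟨a, s⟩, has⟩ := IsLocalization.surj q.primeCompl b
    have hbv' : b ⊗ₜ[A] v = 0 := by
      rw [← mul_one b, ← smul_eq_mul, ← TensorProduct.smul_tmul', hbv]
    have h1 : (1 : B) ⊗ₜ[A] (a • v) = 0 := by
      have h2 : (algebraMap A B s) • (b ⊗ₜ[A] v) = (1 : B) ⊗ₜ[A] (a • v) := by
        rw [TensorProduct.smul_tmul', smul_eq_mul, mul_comm, has, Algebra.algebraMap_eq_smul_one,
          TensorProduct.smul_tmul]
      rw [← h2, hbv', smul_zero]
    have : IsLocalizedModule q.primeCompl (TensorProduct.mk A B V 1) :=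
      (isLocalizedModule_iff_isBaseChange q.primeCompl B _).2 (TensorProduct.isBaseChange A V B)
    obtain ⟨t, ht⟩ := (IsLocalizedModule.eq_zero_iff q.primeCompl
      (TensorProduct.mk A B V 1)).1 h1
    refine ⟨t * a, ?_, ?_⟩
    · intro hmem
      rcases (Ideal.IsPrime.mem_or_mem (inferInstance : (P.comap (algebraMap A B)).IsPrime) hmem)
        with h2 | h2
      · exact t.2 (hpq h2)
      · apply hb
        have h3 : b * algebraMap A B s ∈ P := by
          rw [has]
          exact h2
        refine ((inferInstance : P.IsPrime).mem_or_mem h3).resolve_right fun h4 => ?_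
        exact s.2 (hpq h4)
    · rw [mul_smul]
      exact ht
  · intro h x
    induction x using TensorProduct.induction_on with
    | zero => exact ⟨1, fun h1 => Ideal.IsPrime.ne_top inferInstance ((Ideal.eq_top_iff_one P).2 h1),
        smul_zero _⟩
    | tmul b v =>
      obtain ⟨a, ha, hav⟩ := h v
      refine ⟨algebraMap A B a, ha, ?_⟩
      rw [algebraMap_smul, ← TensorProduct.tmul_smul, hav, TensorProduct.tmul_zero]
    | add x y hx hy =>
      obtain ⟨s, hs, hsx⟩ := hx
      obtain ⟨t, ht, hty⟩ := hy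
      refine ⟨s * t, fun hmem => ((inferInstance : P.IsPrime).mem_or_mem hmem).elim hs ht, ?_⟩
      rw [smul_add, mul_smul s t y, hty, smul_zero, add_zero, mul_comm, mul_smul, hsx, smul_zero]

lemma vanAt_iff (q : Ideal A) [q.IsPrime] [IsLocalization.AtPrime B q] [IsNoetherianRing A]
    (h : (algebraMap A B).Flat) (K : Dual.D A) (c : ℤ) [K.IsGE c] (P : Ideal B) [P.IsPrime]
    (i : ℤ) :
    VanAt B P (Dual.inD B (B ⧸ P) ⟶ ((flatBC (algebraMap A B) h).obj K)⟦i⟧) ↔
      VanAt A (P.comap (algebraMap A B)) (Dual.inD A (A ⧸ P.comap (algebraMap A B)) ⟶ K⟦i⟧) := by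
  have hle : P.comap (algebraMap A B) ≤ q := by
    intro x hx
    by_contra hxq
    have h1 : IsUnit (algebraMap A B x) :=
      IsLocalization.map_units B (⟨x, hxq⟩ : q.primeCompl)
    exact Ideal.IsPrime.ne_top inferInstance (Ideal.eq_top_of_isUnit_mem P hx h1)
  have hmap : (P.comap (algebraMap A B)).map (algebraMap A B) = P :=
    IsLocalization.map_under q.primeCompl B P
  have e := homQuotEquiv B h (P.comap (algebraMap A B)) K c i
  rw [hmap] at e
  rw [← vanAt_equiv e]
  exact vanAt_tensor_iff B q _ hle P rfl _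

end Van

/-- A complex all of whose localizations are dualizing. -/
def PtDz (R : Dual.D A) : Prop :=
  ∀ (q : Ideal A) [q.IsPrime] (h : (algebraMap A (Localization.AtPrime q)).Flat),
    Dual.IsDualizing (Localization.AtPrime q)
      ((flatBC (algebraMap A (Localization.AtPrime q)) h).obj R)

/-- The prime of `A_q` above `p ≤ q`. -/
lemma exists_prime_above {p q : PrimeSpectrum A} (h : p ≤ q) :
    ∃ P : PrimeSpectrum (Localization.AtPrime q.asIdeal),
      P.asIdeal.comap (algebraMap A (Localization.AtPrime q.asIdeal)) = p.asIdeal := by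
  have hd : Disjoint (q.asIdeal.primeCompl : Set A) (p.asIdeal : Set A) := by
    rw [Set.disjoint_left]
    intro x hx hx'
    exact hx (h hx')
  have hP := IsLocalization.isPrime_of_isPrime_disjoint q.asIdeal.primeCompl
    (Localization.AtPrime q.asIdeal) p.asIdeal p.2 hd
  exact ⟨⟨_, hP⟩, IsLocalization.under_map_of_isPrime_disjoint q.asIdeal.primeCompl
    (Localization.AtPrime q.asIdeal) p.2 hd⟩

/-- The dimension function (with opposite sign) of a pointwise dualizing complex. -/
theorem exists_d [IsNoetherianRing A] (R : Dual.D A) (c : ℤ) [R.IsGE c] (hR : PtDz R) :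
    ∃ d : PrimeSpectrum A → ℤ,
      (∀ (p : PrimeSpectrum A) (i : ℤ),
        ¬ VanAt A p.asIdeal (Dual.inD A (A ⧸ p.asIdeal) ⟶ R⟦i⟧) ↔ i = d p) ∧
      ∀ p q : PrimeSpectrum A, p ⋖ q → d q = d p + 1 := by
  have hflat (q : PrimeSpectrum A) :
      (algebraMap A (Localization.AtPrime q.asIdeal)).Flat :=
    flat_of_isLocalization q.asIdeal.primeCompl (Localization.AtPrime q.asIdeal)
  have hN (q : PrimeSpectrum A) : IsNoetherianRing (Localization.AtPrime q.asIdeal) :=
    IsLocalization.isNoetherianRing q.asIdeal.primeCompl _ inferInstance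
  have key (q : PrimeSpectrum A) := exists_delta (hR q.asIdeal (hflat q))
  choose δ hδ1 hδ2 using key
  have h1 (q p : PrimeSpectrum A) (P : PrimeSpectrum (Localization.AtPrime q.asIdeal))
      (hP : P.asIdeal.comap (algebraMap A (Localization.AtPrime q.asIdeal)) = p.asIdeal) (i : ℤ) :
      (¬ VanAt A p.asIdeal (Dual.inD A (A ⧸ p.asIdeal) ⟶ R⟦i⟧)) ↔ i = - δ q P := by
    rw [← hδ1 q P i]
    have := vanAt_iff (Localization.AtPrime q.asIdeal) q.asIdeal (hflat q) R c P.asIdeal i
    rw [hP] at this
    exact not_congr this.symm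
  refine ⟨fun p => - δ p (IsLocalRing.closedPoint _), fun p i => ?_, fun p q hpq => ?_⟩
  · exact h1 p p _ (Localization.AtPrime.under_maximalIdeal (I := p.asIdeal)) i
  · obtain ⟨P, hP⟩ := exists_prime_above hpq.1.le
    have hQ : (IsLocalRing.closedPoint (Localization.AtPrime q.asIdeal)).asIdeal.comap
      (algebraMap A (Localization.AtPrime q.asIdeal)) = q.asIdeal :=
      Localization.AtPrime.under_maximalIdeal (I := q.asIdeal)
    have hinj : ∀ X Y : PrimeSpectrum (Localization.AtPrime q.asIdeal),
        X.asIdeal.comap (algebraMap A (Localization.AtPrime q.asIdeal)) ≤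
          Y.asIdeal.comap (algebraMap A (Localization.AtPrime q.asIdeal)) → X ≤ Y := by
      intro X Y hXY
      have h2 := Ideal.map_mono (f := algebraMap A (Localization.AtPrime q.asIdeal)) hXY
      rw [IsLocalization.map_under q.asIdeal.primeCompl,
        IsLocalization.map_under q.asIdeal.primeCompl] at h2
      exact h2
    have hcov : P ⋖ IsLocalRing.closedPoint (Localization.AtPrime q.asIdeal) := by
      constructor
      · refine lt_of_le_not_ge (IsLocalRing.le_maximalIdeal P.2.ne_top) fun hle => ?_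
        have h2 : q.asIdeal ≤ p.asIdeal := by
          exact hQ.symm.le.trans ((Ideal.comap_mono hle).trans hP.le)
        exact not_le_of_gt hpq.1 h2
      · intro X hPX hXQ
        let x : PrimeSpectrum A := ⟨X.asIdeal.comap (algebraMap A _), inferInstance⟩
        have h3 : p < x := by
          refine lt_of_le_not_ge ?_ fun hle => ?_
          · change p.asIdeal ≤ x.asIdeal
            exact hP.symm.le.trans (Ideal.comap_mono hPX.le)
          · refine not_le_of_gt hPX (hinj _ _ ?_)
            exact (show x.asIdeal ≤ p.asIdeal from hle).trans hP.symm.le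
        have h4 : x < q := by
          refine lt_of_le_not_ge ?_ fun hle => ?_
          · change x.asIdeal ≤ q.asIdeal
            exact (Ideal.comap_mono hXQ.le).trans hQ.le
          · refine not_le_of_gt hXQ (hinj _ _ ?_)
            exact hQ.le.trans (show q.asIdeal ≤ x.asIdeal from hle)
        exact hpq.2 h3 h4
    have h5 := hδ2 q _ _ hcov
    have h6 : - δ p (IsLocalRing.closedPoint _) = - δ q P := by
      rw [← h1 q p P hP]
      exact (h1 p p _ (Localization.AtPrime.under_maximalIdeal (I := p.asIdeal)) _).2 rfl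
    dsimp only
    rw [h6]
    lia

/-- Pointwise dualizing over a ring of finite dimension implies dualizing. -/
theorem isDualizing_of_ptDz [IsNoetherianRing A] (hdim : ringKrullDim A < ⊤) (R : Dual.D A)
    (c : ℤ) [R.IsGE c] (hfin : ∀ i : ℤ, Module.Finite A (Dual.HD A R i)) (hR : PtDz R) :
    Dual.IsDualizing A R := by
  obtain ⟨d, hd1, hd2⟩ := exists_d R c hR
  have hδ := isDimFun (fun p : PrimeSpectrum A => - d p) (fun p q hpq => by
    have := hd2 p q hpq
    lia)
  -- a bound
  obtain ⟨D, hD⟩ : ∃ D : ℕ, ringKrullDim A ≤ D := by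
    rcases h : ringKrullDim A with _ | _ | D
    · exact ⟨0, bot_le⟩
    · rw [h] at hdim
      exact absurd hdim (lt_irrefl _)
    · exact ⟨D, le_rfl⟩
  have hfinmin : (minimalPrimes A).Finite := minimalPrimes.finite_of_isNoetherianRing A
  obtain ⟨N0, hN0⟩ : ∃ N0 : ℤ, ∀ p : PrimeSpectrum A, p.asIdeal ∈ minimalPrimes A → d p ≤ N0 := by
    have h1 : ({p : PrimeSpectrum A | p.asIdeal ∈ minimalPrimes A}).Finite :=
      Set.Finite.preimage (fun x _ y _ h => PrimeSpectrum.ext h) hfinmin
    obtain ⟨N0, hN0⟩ := (h1.image d).bddAbove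
    exact ⟨N0, fun p hp => hN0 ⟨p, hp, rfl⟩⟩
  have hle (m : PrimeSpectrum A) : d m ≤ N0 + D := by
    obtain ⟨p, hp, hpm⟩ := Ideal.exists_minimalPrimes_le (I := (⊥ : Ideal A)) (J := m.asIdeal) bot_le
    let p' : PrimeSpectrum A := ⟨p, hp.1.1⟩
    have hp'm : p' ≤ m := hpm
    have h1 : ((d m - d p').toNat : WithBot ℕ∞) ≤ D := by
      have h2 := krullDim_Icc hδ hp'm
      have h3 : Order.krullDim (Set.Icc p' m) ≤ ringKrullDim A :=
        Order.krullDim_le_of_strictMono (fun x => x.1) (fun _ _ h => h)
      rw [h2] at h3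
      have h4 := h3.trans hD
      have h5 : - d p' - - d m = d m - d p' := by ring
      rwa [h5] at h4
    have h2 : (d m - d p').toNat ≤ D := by exact_mod_cast h1
    have h3 := hN0 p' hp
    lia
  refine (isDualizing_of_oneDeg R c (N0 + D) hfin fun m hm => ?_).1
  have hflat := flat_of_isLocalization m.primeCompl (Localization.AtPrime m)
  have h1 := hR m hflat
  have := h1.isNoetherianRing
  obtain ⟨n, hn⟩ := BassCrit.exists_oneDeg h1
    (IsLocalRing.maximalIdeal (Localization.AtPrime m))
  rw [← Localization.AtPrime.map_eq_maximalIdeal] at hn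
  have h2 := hn.of_flatBC (Localization.AtPrime m) hflat c
  refine ⟨n, ?_, h2⟩
  obtain ⟨e⟩ := h2.equiv
  have h3 : ¬ VanAt A m (Dual.inD A (A ⧸ m) ⟶ R⟦n⟧) := by
    rw [vanAt_equiv e]
    exact not_vanAt_Aq ⟨m, hm.isPrime⟩
  have h4 := (hd1 ⟨m, hm.isPrime⟩ n).1 h3
  rw [h4]
  exact hle _

end K173.PtDim
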