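import Groth.Agent.Dual.H318.CMRing
import Groth.Agent.LoccohA.RatliffD
import Groth.Agent.Ega4C.CMFibres

/-!
# Fibres of pure dimension: minimal primes of given coheight and local fibre dimension
-/

set_option autoImplicit false
universe u

open CategoryTheory AlgebraicGeometry
open scoped TensorProduct

namespace K173.PureFib

open Groth.Agent.Dual.H319 Groth.Agent.Ega4C

section Field

variable (k : Type u) [Field k] {S : Type u} [CommRing S] [Algebra k S] [Algebra.FiniteType k S]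

include k

theorem localDim_eq (n : ℕ)
    (h : ∀ Q : PrimeSpectrum S, Q.asIdeal ∈ minimalPrimes S → Order.coheight Q = (n : ℕ∞))
    (Q : PrimeSpectrum S) : FlatMor.localDim (PrimeSpectrum S) Q = n := by
  have h1 : ∀ q ∈ minimalPrimes S, ringKrullDim (S ⧸ q) = n := by
    intro q hq
    have hqp : q.IsPrime := hq.1.1
    have h2 := Groth.Agent.LoccohA.RatliffD.ringKrullDim_quotient_eq_coheight
      (⟨q, hqp⟩ : PrimeSpectrum S)
    rw [h ⟨q, hqp⟩ hq] at h2
    exact h2
  refine le_antisymm (FibDim.localDim_le k Q _ fun q hq _ => (h1 q hq).le) ?_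
  obtain ⟨q, hq, hqQ⟩ := Ideal.exists_minimalPrimes_le (I := (⊥ : Ideal S)) (J := Q.asIdeal) bot_le
  have h2 := FibDim.le_localDim k Q q hq hqQ
  rw [h1 q hq] at h2
  exact h2

theorem coheight_eq (n : ℕ) (h : ∀ Q : PrimeSpectrum S, FlatMor.localDim (PrimeSpectrum S) Q = n)
    (Q : PrimeSpectrum S) (hQ : Q.asIdeal ∈ minimalPrimes S) : Order.coheight Q = (n : ℕ∞) := by
  obtain ⟨q, hq, hqQ, hd⟩ := Core.exists_minimalPrime k Q n (h Q)
  have h1 : q = Q := le_antisymm hqQ (hQ.2 ⟨q.2, bot_le⟩ hqQ)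
  subst h1
  rw [Groth.Agent.LoccohA.RatliffD.ringKrullDim_quotient_eq_coheight] at hd
  exact_mod_cast hd

end Field

section Fib

variable {A B : Type u} [CommRing A] [CommRing B] [Algebra A B] [Algebra.FiniteType A B]

theorem fibreDimAt_eq (n : ℕ)
    (h : ∀ (p : PrimeSpectrum A) (Q : PrimeSpectrum (p.asIdeal.Fiber B)),
      Q.asIdeal ∈ minimalPrimes (p.asIdeal.Fiber B) → Order.coheight Q = (n : ℕ∞))
    (q : PrimeSpectrum B) :
    FlatMor.fibreDimAt (Spec.map (CommRingCat.ofHom (algebraMap A B))) q = n := by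
  obtain ⟨Q, hQ, hQq⟩ := FibreTower.exists_prime_fibre (q.asIdeal.comap (algebraMap A B))
    q.asIdeal rfl
  let p : PrimeSpectrum A := ⟨q.asIdeal.comap (algebraMap A B), inferInstance⟩
  rw [FibDim.fibreDimAt_spec p ⟨Q, hQ⟩ q hQq.symm]
  exact localDim_eq p.asIdeal.ResidueField n (h p) _

theorem coheight_eq_of_fibreDimAt (n : ℕ)
    (h : ∀ q : PrimeSpectrum B,
      FlatMor.fibreDimAt (Spec.map (CommRingCat.ofHom (algebraMap A B))) q = n)
    (p : PrimeSpectrum A) (Q : PrimeSpectrum (p.asIdeal.Fiber B))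
    (hQ : Q.asIdeal ∈ minimalPrimes (p.asIdeal.Fiber B)) : Order.coheight Q = (n : ℕ∞) := by
  refine coheight_eq p.asIdeal.ResidueField n (fun Q => ?_) Q hQ
  rw [← FibDim.fibreDimAt_spec p Q ⟨FibreTower.ctr p.asIdeal Q.asIdeal, inferInstance⟩ rfl]
  exact h _

/-- The fibre, with the factors in the other order. -/
noncomputable def fibEquiv (p : PrimeSpectrum A) :
    (B ⊗[A] p.asIdeal.ResidueField) ≃+* p.asIdeal.Fiber B :=
  (Algebra.TensorProduct.comm A B p.asIdeal.ResidueField).toRingEquiv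

/-- Transport of the coheight condition along a ring isomorphism. -/
theorem coheight_congr {S T : Type u} [CommRing S] [CommRing T] (e : S ≃+* T) (n : ℕ)
    (h : ∀ Q : PrimeSpectrum S, Q.asIdeal ∈ minimalPrimes S → Order.coheight Q = (n : ℕ∞))
    (Q : PrimeSpectrum T) (hQ : Q.asIdeal ∈ minimalPrimes T) : Order.coheight Q = (n : ℕ∞) := by
  let E : PrimeSpectrum T ≃o PrimeSpectrum S := PrimeSpectrum.comapEquiv e.symm
  have h1 : (E Q).asIdeal ∈ minimalPrimes S := by
    refine ⟨⟨(E Q).2, bot_le⟩, fun q' hq' hle => ?_⟩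
    have h2 : E.symm ⟨q', hq'.1⟩ ≤ Q := by
      rw [← E.le_iff_le, E.apply_symm_apply]
      exact hle
    have h3 := hQ.2 ⟨(E.symm ⟨q', hq'.1⟩).2, bot_le⟩ h2
    have h4 : Q ≤ E.symm ⟨q', hq'.1⟩ := h3
    rw [← E.le_iff_le, E.apply_symm_apply] at h4
    exact h4
  rw [← Order.coheight_orderIso E]
  exact h _ h1

theorem fibreDimAt_eq' (n : ℕ)
    (h : ∀ (p : PrimeSpectrum A) (Q : PrimeSpectrum (B ⊗[A] p.asIdeal.ResidueField)),
      Q.asIdeal ∈ minimalPrimes (B ⊗[A] p.asIdeal.ResidueField) → Order.coheight Q = (n : ℕ∞))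
    (q : PrimeSpectrum B) :
    FlatMor.fibreDimAt (Spec.map (CommRingCat.ofHom (algebraMap A B))) q = n :=
  fibreDimAt_eq n (fun p => coheight_congr (S := B ⊗[A] p.asIdeal.ResidueField)
    (T := p.asIdeal.Fiber B) (fibEquiv p) n (h p)) q

theorem coheight_eq_of_fibreDimAt' (n : ℕ)
    (h : ∀ q : PrimeSpectrum B,
      FlatMor.fibreDimAt (Spec.map (CommRingCat.ofHom (algebraMap A B))) q = n)
    (p : PrimeSpectrum A) (Q : PrimeSpectrum (B ⊗[A] p.asIdeal.ResidueField))
    (hQ : Q.asIdeal ∈ minimalPrimes (B ⊗[A] p.asIdeal.ResidueField)) :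
    Order.coheight Q = (n : ℕ∞) :=
  coheight_congr (S := p.asIdeal.Fiber B) (T := B ⊗[A] p.asIdeal.ResidueField)
    (fibEquiv p).symm n (coheight_eq_of_fibreDimAt n h p) Q hQ

end Fib

end K173.PureFib
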