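import Groth.Agent.LoccohB.CoextDual2
import Groth.Agent.LoccohA.DzDim

/-!
# `Hom_{D(B)}(B/q, R(K)[i])` and `Hom_{D(A)}(A/p, K[i])` for `A → B` surjective, `p = q ∩ A`
-/

set_option autoImplicit false
universe u

open CategoryTheory CategoryTheory.Limits

attribute [local instance] HasDerivedCategory.standard

namespace K173.RadjDelta

open DerivedCategory Groth.Agent.LoccohB Groth.Agent.LoccohB.RAdjFin
  Groth.Agent.LoccohA.DzExact Groth.Agent.LoccohA.DzDim

variable {A B : Type u} [CommRing A] [CommRing B] [Algebra A B]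

/-- The restriction to `A` of `B/q` is `A/p`. -/
noncomputable def resQuot (hs : Function.Surjective (algebraMap A B)) (q : Ideal B) :
    (ModuleCat.restrictScalars.{u} (algebraMap A B)).obj (ModuleCat.of B (B ⧸ q)) ≅
      ModuleCat.of A (A ⧸ q.comap (algebraMap A B)) :=
  let f : (A ⧸ q.comap (algebraMap A B)) →ₗ[A]
      ((ModuleCat.restrictScalars.{u} (algebraMap A B)).obj (ModuleCat.of B (B ⧸ q))) :=
    { toFun := Ideal.quotientMap q (algebraMap A B) le_rfl
      map_add' := map_add _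
      map_smul' := fun a x => by
        obtain ⟨x, rfl⟩ := Ideal.Quotient.mk_surjective x
        have h1 : a • (Ideal.Quotient.mk (q.comap (algebraMap A B)) x) =
          Ideal.Quotient.mk (q.comap (algebraMap A B)) (a * x) := rfl
        rw [h1, Ideal.quotientMap_mk, Ideal.quotientMap_mk, map_mul]
        rfl }
  (LinearEquiv.ofBijective f ⟨Ideal.quotientMap_injective' (H := le_rfl) le_rfl,
    Ideal.quotientMap_surjective (H := le_rfl) hs⟩).toModuleIso.symm

variable {R : Dual.D A ⥤ Dual.D B} (adj : DRing.restrictD (algebraMap A B) ⊣ R)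

/-- The comparison, as an additive bijection. -/
noncomputable def compEquiv (hs : Function.Surjective (algebraMap A B)) (q : Ideal B)
    (K : Dual.D A) (i : ℤ) :
    (Dual.inD B (B ⧸ q) ⟶ (R.obj K)⟦i⟧) ≃+
      (Dual.inD A (A ⧸ q.comap (algebraMap A B)) ⟶ K⟦i⟧) :=
  ((Linear.homCongr B (Iso.refl _) (RAdj.shiftIso adj K i).symm).toAddEquiv.trans
    (adjAddEquiv adj (Dual.inD B (B ⧸ q)) (K⟦i⟧))).trans
    (Linear.homCongr A (restrictDSingle (algebraMap A B) 0 (ModuleCat.of B (B ⧸ q)) ≪≫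
      (singleFunctor (ModuleCat.{u} A) 0).mapIso (resQuot hs q)) (Iso.refl (K⟦i⟧))).toAddEquiv

lemma compEquiv_smul (hs : Function.Surjective (algebraMap A B)) (q : Ideal B)
    (K : Dual.D A) (i : ℤ) (a : A) (x : Dual.inD B (B ⧸ q) ⟶ (R.obj K)⟦i⟧) :
    compEquiv adj hs q K i (algebraMap A B a • x) = a • compEquiv adj hs q K i x := by
  change (Linear.homCongr A (restrictDSingle (algebraMap A B) 0 (ModuleCat.of B (B ⧸ q)) ≪≫
      (singleFunctor (ModuleCat.{u} A) 0).mapIso (resQuot hs q)) (Iso.refl (K⟦i⟧)))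
      (adjAddEquiv adj (Dual.inD B (B ⧸ q)) (K⟦i⟧)
        (Linear.homCongr B (Iso.refl _) (RAdj.shiftIso adj K i).symm (algebraMap A B a • x))) =
    a • (Linear.homCongr A (restrictDSingle (algebraMap A B) 0 (ModuleCat.of B (B ⧸ q)) ≪≫
      (singleFunctor (ModuleCat.{u} A) 0).mapIso (resQuot hs q)) (Iso.refl (K⟦i⟧)))
      (adjAddEquiv adj (Dual.inD B (B ⧸ q)) (K⟦i⟧)
        (Linear.homCongr B (Iso.refl _) (RAdj.shiftIso adj K i).symm x))
  rw [map_smul, adjAddEquiv_smul, map_smul]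

include adj in
/-- Vanishing at `q`, resp. `p`. -/
theorem vanAt_iff (hs : Function.Surjective (algebraMap A B)) (q : Ideal B)
    (K : Dual.D A) (i : ℤ) :
    VanAt B q (Dual.inD B (B ⧸ q) ⟶ (R.obj K)⟦i⟧) ↔
      VanAt A (q.comap (algebraMap A B))
        (Dual.inD A (A ⧸ q.comap (algebraMap A B)) ⟶ K⟦i⟧) := by
  constructor
  · intro h y
    obtain ⟨x, rfl⟩ := (compEquiv adj hs q K i).surjective y
    obtain ⟨b, hb, hbx⟩ := h x
    obtain ⟨a, rfl⟩ := hs b
    exact ⟨a, hb, by rw [← compEquiv_smul adj, hbx, map_zero]⟩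
  · intro h x
    obtain ⟨a, ha, hax⟩ := h (compEquiv adj hs q K i x)
    refine ⟨algebraMap A B a, ha, (compEquiv adj hs q K i).injective ?_⟩
    rw [compEquiv_smul adj, hax, map_zero]

end K173.RadjDelta
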