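import Groth.Agent.LoccohB.CoextDual2
import Groth.Agent.LoccohA.DzDual

/-!
# The triangle `res R(K) → K → RHom(I, K)` for `B = A/I` and `R` right adjoint of restriction of scalars
-/

set_option autoImplicit false
universe u

open CategoryTheory CategoryTheory.Limits CategoryTheory.Pretriangulated

attribute [local instance] HasDerivedCategory.standard

namespace K173.RadjTri

open DerivedCategory Groth.Agent.LoccohB Groth.Agent.LoccohB.RAdjFin Groth.Agent.LoccohB.CoextDual
  Groth.Agent.LoccohA.DzHom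

section Tri

variable {C : Type*} [Category* C] [Preadditive C] [HasZeroObject C] [HasShift C ℤ]
  [∀ n : ℤ, (shiftFunctor C n).Additive] [Pretriangulated C]

/-- Transport of a distinguished triangle along isomorphisms of its three objects. -/
lemma mk_mem_of_iso {T : Triangle C} (hT : T ∈ distTriang C) {X Y Z : C} (a : X ≅ T.obj₁)
    (b : Y ≅ T.obj₂) (c : Z ≅ T.obj₃) :
    Triangle.mk (a.hom ≫ T.mor₁ ≫ b.inv) (b.hom ≫ T.mor₂ ≫ c.inv)
      (c.hom ≫ T.mor₃ ≫ a.inv⟦(1 : ℤ)⟧') ∈ distTriang C := by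
  refine isomorphic_distinguished _ hT _ (Triangle.isoMk _ _ a b c ?_ ?_ ?_)
  · change (a.hom ≫ T.mor₁ ≫ b.inv) ≫ b.hom = a.hom ≫ T.mor₁
    rw [Category.assoc, Category.assoc, Iso.inv_hom_id, Category.comp_id]
  · change (b.hom ≫ T.mor₂ ≫ c.inv) ≫ c.hom = b.hom ≫ T.mor₂
    rw [Category.assoc, Category.assoc, Iso.inv_hom_id, Category.comp_id]
  · change (c.hom ≫ T.mor₃ ≫ a.inv⟦(1 : ℤ)⟧') ≫ a.hom⟦(1 : ℤ)⟧' = c.hom ≫ T.mor₃
    rw [Category.assoc, Category.assoc, ← Functor.map_comp, Iso.inv_hom_id,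
      CategoryTheory.Functor.map_id, Category.comp_id]

end Tri

variable {A B : Type u} [CommRing A] [CommRing B] [Algebra A B]

/-- `Hom_A(B, J)`, in its two versions. -/
noncomputable def gRB (J : CochainComplex (ModuleCat.{u} A) ℤ) :
    G (RB A B) J ≅ resCoext B J :=
  HomologicalComplex.Hom.isoOfComponents
    (fun i => LinearEquiv.toModuleIso (X₂ := RC B (J.X i))
      (LinearEquiv.ofBijective ((toRC (B := B) (J.X i)).comp
        (ModuleCat.homLinearEquiv (S := A) (M := RB A B) (N := J.X i)).toLinearMap)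
        ((toRC_bijective (J.X i)).comp (LinearEquiv.bijective _))))
    (fun i j _ => by
      refine ModuleCat.hom_ext (LinearMap.ext fun z => ?_)
      rfl)

/-- `res R(Q J) ≅ Q Hom(X₃, J)` for `X₃ ≅ B`. -/
noncomputable def resIso {R : Dual.D A ⥤ Dual.D B}
    (adj : DRing.restrictD (algebraMap A B) ⊣ R) (J : CochainComplex (ModuleCat.{u} A) ℤ) [J.IsKInjective]
    {X : ModuleCat.{u} A} (e : X ≅ RB A B) :
    (DRing.restrictD (algebraMap A B)).obj (R.obj (Q.obj J)) ≅ Q.obj (G X J) :=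
  tau adj J ≪≫ Q.mapIso ((gRB J).symm ≪≫
    { hom := Gmap e.hom J
      inv := Gmap e.inv J
      hom_inv_id := by rw [← Gmap_comp, e.inv_hom_id, Gmap_id]
      inv_hom_id := by rw [← Gmap_comp, e.hom_inv_id, Gmap_id] })

/-- The restriction to `A` of `A/I`. -/
noncomputable def quotIso (I : Ideal A) :
    ModuleCat.of A (A ⧸ I) ≅ RB A (A ⧸ I) where
  hom := ModuleCat.ofHom (Y := RB A (A ⧸ I))
    { toFun := fun x => x
      map_add' := fun _ _ => rfl
      map_smul' := fun a x => by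
        obtain ⟨x, rfl⟩ := Ideal.Quotient.mk_surjective x
        rfl }
  inv := ModuleCat.ofHom (X := RB A (A ⧸ I))
    { toFun := fun x => x
      map_add' := fun _ _ => rfl
      map_smul' := fun a (x : A ⧸ I) => by
        obtain ⟨x, rfl⟩ := Ideal.Quotient.mk_surjective x
        rfl }
  hom_inv_id := rfl
  inv_hom_id := rfl

section

variable {I : Ideal A} {R : Dual.D A ⥤ Dual.D (A ⧸ I)}
  (adj : DRing.restrictD (Ideal.Quotient.mk I) ⊣ R)

include adj in
/-- The triangle attached to a short exact sequence `X → A → A/I`: it has vertices `R(ω)`, `ω` and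
`Hom(X, J)`, with `J` a complex of injectives representing `ω`. -/
theorem exists_triangle {X : ModuleCat.{u} A} (f : X ⟶ ModuleCat.of A A)
    (hf : f ≫ ModuleCat.ofHom (Submodule.mkQ I) = 0)
    (hS : (ShortComplex.mk f (ModuleCat.ofHom (Submodule.mkQ I)) hf).ShortExact)
    {ω : Dual.D A} (J : CochainComplex (ModuleCat.{u} A) ℤ) [J.IsKInjective]
    [∀ i, Injective (J.X i)] (e : ω ≅ Q.obj J) {Z : Dual.D A} (c : Z ≅ Q.obj (G X J)) :
    ∃ (u : (DRing.restrictD (Ideal.Quotient.mk I)).obj (R.obj ω) ⟶ ω)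
      (w : Z ⟶ ((DRing.restrictD (Ideal.Quotient.mk I)).obj (R.obj ω))⟦(1 : ℤ)⟧),
      Triangle.mk u ((e ≪≫ Q.mapIso (GAiso J).symm).hom ≫ Q.map (Gmap f J) ≫ c.inv) w ∈
        distinguishedTriangles := by
  let S := ShortComplex.mk f (ModuleCat.ofHom (Submodule.mkQ I)) hf
  have hT := triangleOfSES_distinguished (Gsc_shortExact (S := S) hS J)
  let a : (DRing.restrictD (Ideal.Quotient.mk I)).obj (R.obj ω) ≅ Q.obj (G S.X₃ J) :=
    (DRing.restrictD (Ideal.Quotient.mk I)).mapIso (R.mapIso e) ≪≫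
      resIso (B := A ⧸ I) adj J (quotIso I)
  exact ⟨_, _, mk_mem_of_iso hT a (e ≪≫ Q.mapIso (GAiso J).symm) c⟩

end

end K173.RadjTri
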