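import Groth.Agent.Dual.K173.ShriekExt

/-!
# Linear equivalences from semilinear ones
-/

set_option autoImplicit false
universe u

namespace K173.ShriekExt

variable {P A : Type u} [CommRing P] [CommRing A] [Algebra P A] {φ : P →+* A}
  (hφ : ∀ a, φ a = algebraMap P A a)
  {M N : Type u} [AddCommGroup M] [Module A M] [AddCommGroup N] [Module P N]

/-- Restriction of scalars of `M` is `N`. -/
noncomputable def restrictEquiv_of_semi (e : SemiEquiv φ M N) (hφ : ∀ a, φ a = algebraMap P A a) :
    RestrictScalars P A M ≃ₗ[P] N where
  toFun x := e.e (RestrictScalars.addEquiv P A M x)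
  invFun y := (RestrictScalars.addEquiv P A M).symm (e.e.symm y)
  left_inv x := by simp
  right_inv x := by simp
  map_add' x y := by rw [map_add, map_add]
  map_smul' a x := by
    have h1 : RestrictScalars.addEquiv P A M (a • x) =
        φ a • RestrictScalars.addEquiv P A M x := by
      rw [hφ]
      rfl
    rw [h1, e.smul]
    rfl

/-- Two `A`-modules with the same restriction to `P`, for `P → A` surjective. -/
noncomputable def linearEquiv_of_semi (e : SemiEquiv φ M N) (hφ : ∀ a, φ a = algebraMap P A a)
    (hs : Function.Surjective φ) {L : Type u} [AddCommGroup L] [Module A L]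
    (e' : RestrictScalars P A L ≃ₗ[P] N) : M ≃ₗ[A] L where
  toFun x := RestrictScalars.addEquiv P A L (e'.symm (e.e x))
  invFun y := e.e.symm (e' ((RestrictScalars.addEquiv P A L).symm y))
  left_inv x := by simp
  right_inv x := by simp
  map_add' x y := by rw [map_add, map_add, map_add]
  map_smul' c x := by
    obtain ⟨a, rfl⟩ := hs c
    rw [e.smul, map_smul, hφ]
    rfl

end K173.ShriekExt
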