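import Groth.Agent.Dual.K173.ExtPow
import Groth.Agent.S12482
import Mathlib.RingTheory.Smooth.Kaehler
import Mathlib.RingTheory.Smooth.Basic
import Mathlib.RingTheory.Kaehler.Basic

/-!
# Determinants of differentials of a smooth quotient by a regular sequence
-/

set_option autoImplicit false
universe u

open scoped TensorProduct
open KaehlerDifferential

namespace K173.SmoothQuot

/-- Equal ideals have the same cotangent module. -/
noncomputable def cotCongr {A : Type*} [CommRing A] {I J : Ideal A} (h : I = J) :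
    I.Cotangent ≃ₗ[A] J.Cotangent := by
  subst h
  exact LinearEquiv.refl A _

variable {k : Type u} [Field k] {A : Type u} [CommRing A] [Algebra k A]
  (J : Ideal A)

/-- The split conormal sequence. -/
theorem exists_conormal [Algebra.FormallySmooth k A] [Algebra.FormallySmooth k (A ⧸ J)] :
    ∃ (f : J.Cotangent →ₗ[A ⧸ J] ((A ⧸ J) ⊗[A] Ω[A⁄k]))
      (r : ((A ⧸ J) ⊗[A] Ω[A⁄k]) →ₗ[A ⧸ J] J.Cotangent),
      r ∘ₗ f = LinearMap.id ∧ Function.Exact f (mapBaseChange k A (A ⧸ J)) := by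
  have hsurj : Function.Surjective (algebraMap A (A ⧸ J)) := Ideal.Quotient.mk_surjective
  have hker : RingHom.ker (algebraMap A (A ⧸ J)) = J := Ideal.mk_ker
  obtain ⟨l, hl⟩ := (Algebra.FormallySmooth.iff_split_injection (R := k) (P := A) (A := A ⧸ J)
    hsurj).1 inferInstance
  have hex := exact_kerCotangentToTensor_mapBaseChange k A (A ⧸ J) hsurj
  let e := cotCongr hker
  let f : J.Cotangent →ₗ[A] ((A ⧸ J) ⊗[A] Ω[A⁄k]) :=
    kerCotangentToTensor k A (A ⧸ J) ∘ₗ e.symm.toLinearMap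
  let r : ((A ⧸ J) ⊗[A] Ω[A⁄k]) →ₗ[A] J.Cotangent := e.toLinearMap ∘ₗ l.restrictScalars A
  refine ⟨f.extendScalarsOfSurjective hsurj, r.extendScalarsOfSurjective hsurj, ?_, ?_⟩
  · ext x
    change e (l (kerCotangentToTensor k A (A ⧸ J) (e.symm x))) = x
    have := LinearMap.congr_fun hl (e.symm x)
    exact (congrArg e this).trans (e.apply_symm_apply x)
  · intro y
    refine (hex y).trans ?_
    constructor
    · rintro ⟨x, rfl⟩
      exact ⟨e x, congrArg (kerCotangentToTensor k A (A ⧸ J)) (e.symm_apply_apply x)⟩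
    · rintro ⟨x, rfl⟩
      exact ⟨e.symm x, rfl⟩

open K173.ExtPow

variable {J}

theorem mapBaseChange_surjective' :
    Function.Surjective (mapBaseChange k A (A ⧸ J)) :=
  mapBaseChange_surjective k A (A ⧸ J) Ideal.Quotient.mk_surjective

/-- The rank of the differentials of the quotient. -/
theorem rank_quot [Algebra.FiniteType k A] [Algebra.Smooth k A] [Algebra.Smooth k (A ⧸ J)]
    (n p : ℕ) (hn : ∀ q : PrimeSpectrum A, Module.rankAtStalk (Ω[A⁄k]) q = n)
    (b : Module.Basis (Fin p) (A ⧸ J) J.Cotangent) (q : PrimeSpectrum (A ⧸ J)) :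
    Module.rankAtStalk (Ω[(A ⧸ J)⁄k]) q + p = n := by
  have hJ : Nontrivial (A ⧸ J) := q.nontrivial
  have hfree : Module.Free (A ⧸ J) J.Cotangent := Module.Free.of_basis b
  have hfin : Module.Finite (A ⧸ J) J.Cotangent := Module.Finite.of_basis b
  obtain ⟨f, r, hr, hex⟩ := exists_conormal (k := k) J
  obtain ⟨e⟩ := nonempty_prod f (mapBaseChange k A (A ⧸ J)) r hr mapBaseChange_surjective' hex
  have h1 := Module.rankAtStalk_eq_of_equiv e
  rw [Module.rankAtStalk_prod] at h1
  have h2 := congrFun h1 q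
  rw [Module.rankAtStalk_baseChange, hn, Pi.add_apply, Module.rankAtStalk_eq_finrank_of_free,
    Module.finrank_eq_card_basis b, Fintype.card_fin] at h2
  rw [h2, add_comm]
  rfl

/-- The determinant of the differentials of the quotient. -/
theorem nonempty_det_quot [Algebra.FiniteType k A] [Algebra.Smooth k A] [Algebra.Smooth k (A ⧸ J)]
    (n p : ℕ) (hpn : p ≤ n) (hn : ∀ q : PrimeSpectrum A, Module.rankAtStalk (Ω[A⁄k]) q = n)
    (b : Module.Basis (Fin p) (A ⧸ J) J.Cotangent) :
    Nonempty (((A ⧸ J) ⊗[A] ↥(⋀[A]^n (Ω[A⁄k]))) ≃ₗ[A ⧸ J]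
      ↥(⋀[A ⧸ J]^(n - p) (Ω[(A ⧸ J)⁄k]))) := by
  have hfree : Module.Free (A ⧸ J) J.Cotangent := Module.Free.of_basis b
  have hfin : Module.Finite (A ⧸ J) J.Cotangent := Module.Finite.of_basis b
  obtain ⟨f, r, hr, hex⟩ := exists_conormal (k := k) J
  have hq : ∀ q : PrimeSpectrum (A ⧸ J), Module.rankAtStalk (Ω[(A ⧸ J)⁄k]) q = n - p := fun q => by
    have := rank_quot n p hn b q
    omega
  have hp : Subsingleton (⋀[A ⧸ J]^(p + 1) J.Cotangent) := by
    refine subsingleton_ext_of_rank (q := p) (fun q => ?_) (Nat.lt_succ_self p)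
    have hJ : Nontrivial (A ⧸ J) := q.nontrivial
    rw [Module.rankAtStalk_eq_finrank_of_free, Module.finrank_eq_card_basis b, Fintype.card_fin]
    rfl
  obtain ⟨e1⟩ := nonempty_det f (mapBaseChange k A (A ⧸ J)) r hr mapBaseChange_surjective' hex
    p (n - p) hp (fun i hi => subsingleton_ext_of_rank hq hi)
  obtain ⟨e2⟩ := nonempty_top p b
  rw [Nat.add_sub_cancel' hpn] at e1
  have e3 := baseChangeEquiv (TensorProduct.isBaseChange A (Ω[A⁄k]) (A ⧸ J)) n
  exact ⟨(e3.trans e1).trans ((TensorProduct.congr e2 (LinearEquiv.refl _ _)).trans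
    (TensorProduct.lid _ _))⟩

end K173.SmoothQuot
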