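import Groth.Agent.LoccohA.TorLES
import Groth.Agent.LoccohA.LCLinear
import Groth.Agent.CycA.DerShift
import Mathlib.Algebra.Category.ModuleCat.EnoughInjectives
import Mathlib.Algebra.Category.ModuleCat.Abelian

/-!
# `Tor' n N M ≅ Tor n M N ≅ Tor n N M` for modules over a commutative ring
-/

set_option autoImplicit false
universe u

open CategoryTheory CategoryTheory.Limits MonoidalCategory

namespace K173.TorSymm

open Groth.Agent.LoccohA.TorLES Groth.Agent.CycA.DerShift

variable {A : Type u} [CommRing A]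

/-- Left derived functors of isomorphic functors. -/
noncomputable def leftDerivedNatIso {F G : ModuleCat.{u} A ⥤ ModuleCat.{u} A} [F.Additive]
    [G.Additive] (e : F ≅ G) (n : ℕ) : F.leftDerived n ≅ G.leftDerived n where
  hom := NatTrans.leftDerived e.hom n
  inv := NatTrans.leftDerived e.inv n
  hom_inv_id := by
    rw [← NatTrans.leftDerived_comp, e.hom_inv_id, NatTrans.leftDerived_id]
  inv_hom_id := by
    rw [← NatTrans.leftDerived_comp, e.inv_hom_id, NatTrans.leftDerived_id]

/-- `Tor' n N M ≅ Tor n M N`. -/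
noncomputable def torPrimeIso (n : ℕ) (N M : ModuleCat.{u} A) :
    ((Tor' (ModuleCat.{u} A) n).obj N).obj M ≅ ((Tor (ModuleCat.{u} A) n).obj M).obj N :=
  (leftDerivedNatIso (F := (tensoringRight (ModuleCat.{u} A)).obj M)
    (G := (tensoringLeft (ModuleCat.{u} A)).obj M)
    (BraidedCategory.tensorLeftIsoTensorRight M).symm n).app N

lemma exists_proj (M : ModuleCat.{u} A) : ∃ (S : ShortComplex (ModuleCat.{u} A)),
    S.ShortExact ∧ Projective S.X₂ ∧ Module.Flat A S.X₂ ∧ S.X₃ = M := by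
  let S := ShortComplex.mk (kernel.ι (Projective.π M)) (Projective.π M) (kernel.condition _)
  have hS : S.ShortExact :=
    { exact := ShortComplex.exact_of_f_is_kernel _ (kernelIsKernel _)
      mono_f := by dsimp [S]; infer_instance
      epi_g := by dsimp [S]; infer_instance }
  refine ⟨S, hS, by dsimp [S]; infer_instance, ?_, rfl⟩
  have h1 : Projective (Projective.over M) := inferInstance
  have h2 : Projective (ModuleCat.of A (Projective.over M : ModuleCat.{u} A)) := h1
  rw [← IsProjective.iff_projective] at h2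
  exact (inferInstance : Module.Flat A (Projective.over M : ModuleCat.{u} A))

/-- Dimension shifting in the first variable. -/
theorem nonempty_shift {S : ShortComplex (ModuleCat.{u} A)} (hS : S.ShortExact)
    [Module.Flat A S.X₂] (N : ModuleCat.{u} A) (n : ℕ) :
    Nonempty (((Tor (ModuleCat.{u} A) (n + 2)).obj S.X₃).obj N ≅
      ((Tor (ModuleCat.{u} A) (n + 1)).obj S.X₁).obj N) := by
  have h1 := subsingleton_tor_of_flat S.X₂ N (n + 1)
  have h2 := subsingleton_tor_of_flat S.X₂ N n
  have e1 := exact_map_δ hS N (n + 1)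
  have e2 := exact_δ_map hS N (n + 1)
  refine ⟨(LinearEquiv.ofBijective (torδ hS N (n + 1)).hom ⟨?_, ?_⟩).toModuleIso⟩
  · rw [injective_iff_map_eq_zero]
    intro x hx
    obtain ⟨y, rfl⟩ := (e1 x).1 hx
    rw [h1.elim y 0, map_zero]
  · intro y
    exact (e2 y).1 (h2.elim _ _)

/-- `Tor 1`, first variable. -/
theorem nonempty_one {S : ShortComplex (ModuleCat.{u} A)} (hS : S.ShortExact)
    [Module.Flat A S.X₂] (N : ModuleCat.{u} A) :
    Nonempty ((((Tor (ModuleCat.{u} A) 1).obj S.X₃).obj N : ModuleCat.{u} A) ≃ₗ[A]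
      LinearMap.ker (S.f ▷ N).hom) := by
  have h1 := subsingleton_tor_of_flat S.X₂ N 0
  have e1 := exact_map_δ hS N 0
  have e2 := exact_δ_map hS N 0
  have hinj : Function.Injective (torδ hS N 0).hom := by
    rw [injective_iff_map_eq_zero]
    intro x hx
    obtain ⟨y, rfl⟩ := (e1 x).1 hx
    rw [h1.elim y 0, map_zero]
  have hker : LinearMap.range (torδ hS N 0).hom =
      LinearMap.ker (((Tor (ModuleCat.{u} A) 0).map S.f).app N).hom := by
    ext x
    rw [LinearMap.mem_ker]
    exact (e2 x).symm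
  have hnat := tor0Iso_hom_naturality_left S.f N
  have h3 : ∀ x, (S.f ▷ N).hom ((tor0Iso S.X₁ N).hom.hom x) =
      (tor0Iso S.X₂ N).hom.hom ((((Tor (ModuleCat.{u} A) 0).map S.f).app N).hom x) := fun x =>
    (congrArg (fun t => t.hom x) hnat).symm
  have e3 : LinearMap.ker (((Tor (ModuleCat.{u} A) 0).map S.f).app N).hom ≃ₗ[A]
      LinearMap.ker (S.f ▷ N).hom :=
    LinearEquiv.ofSubmodules (tor0Iso S.X₁ N).toLinearEquiv _ _ (by
      ext x
      rw [Submodule.mem_map, LinearMap.mem_ker]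
      constructor
      · rintro ⟨y, hy, rfl⟩
        have h4 := h3 y
        rw [LinearMap.mem_ker.1 hy, map_zero] at h4
        exact h4
      · intro hx
        refine ⟨(tor0Iso S.X₁ N).toLinearEquiv.symm x, ?_,
          (tor0Iso S.X₁ N).toLinearEquiv.apply_symm_apply x⟩
        rw [LinearMap.mem_ker]
        apply (tor0Iso S.X₂ N).toLinearEquiv.injective
        rw [map_zero]
        have h4 := h3 ((tor0Iso S.X₁ N).toLinearEquiv.symm x)
        have h5 : (tor0Iso S.X₁ N).hom.hom ((tor0Iso S.X₁ N).toLinearEquiv.symm x) = x :=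
          (tor0Iso S.X₁ N).toLinearEquiv.apply_symm_apply x
        rw [h5, hx] at h4
        exact h4.symm)
  exact ⟨((LinearEquiv.ofInjective _ hinj).trans (LinearEquiv.ofEq _ _ hker)).trans e3⟩

instance preservesFiniteColimits_tensorLeft (N : ModuleCat.{u} A) :
    PreservesFiniteColimits ((tensoringLeft (ModuleCat.{u} A)).obj N) :=
  inferInstanceAs (PreservesFiniteColimits (tensorLeft N))

/-- **Symmetry of `Tor`.** -/
theorem nonempty_symm (n : ℕ) (M N : ModuleCat.{u} A) :
    Nonempty ((((Tor (ModuleCat.{u} A) n).obj M).obj N : ModuleCat.{u} A) ≃ₗ[A]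
      (((Tor (ModuleCat.{u} A) n).obj N).obj M : ModuleCat.{u} A)) := by
  rcases n with _ | n
  · exact ⟨((tor0Iso M N).toLinearEquiv.trans (β_ M N).toLinearEquiv).trans
      (tor0Iso N M).toLinearEquiv.symm⟩
  induction n generalizing M with
  | zero =>
    obtain ⟨S, hS, h1, h2, rfl⟩ := exists_proj M
    obtain ⟨e⟩ := nonempty_one hS N
    have e2 : (((Tor (ModuleCat.{u} A) 1).obj N).obj S.X₃) ≅ kernel (N ◁ S.f) :=
      shiftOneIso ((tensoringLeft (ModuleCat.{u} A)).obj N) hS
    have e3 : kernel (N ◁ S.f) ≅ kernel (S.f ▷ N) :=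
      kernel.mapIso _ _ (β_ N S.X₁) (β_ N S.X₂) (by simp)
    have e4 : kernel (S.f ▷ N) ≅ ModuleCat.of A (LinearMap.ker (S.f ▷ N).hom) :=
      ModuleCat.kernelIsoKer _
    exact ⟨e.trans (e2 ≪≫ e3 ≪≫ e4).toLinearEquiv.symm⟩
  | succ n ih =>
    obtain ⟨S, hS, h1, h2, rfl⟩ := exists_proj M
    obtain ⟨e⟩ := nonempty_shift hS N n
    obtain ⟨e2⟩ := ih S.X₁
    have e3 : (((Tor (ModuleCat.{u} A) (n + 2)).obj N).obj S.X₃) ≅
        (((Tor (ModuleCat.{u} A) (n + 1)).obj N).obj S.X₁) :=
      shiftIso ((tensoringLeft (ModuleCat.{u} A)).obj N) hS n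
    exact ⟨(e.toLinearEquiv.trans e2).trans e3.toLinearEquiv.symm⟩

/-- `Tor' n N M ≅ Tor n N M`. -/
theorem nonempty_torPrime (n : ℕ) (N M : ModuleCat.{u} A) :
    Nonempty ((((Tor' (ModuleCat.{u} A) n).obj N).obj M : ModuleCat.{u} A) ≃ₗ[A]
      (((Tor (ModuleCat.{u} A) n).obj N).obj M : ModuleCat.{u} A)) := by
  obtain ⟨e⟩ := nonempty_symm n M N
  exact ⟨(torPrimeIso n N M).toLinearEquiv.trans e⟩

end K173.TorSymm
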